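import Cfsg.Agent.Invol.StrongEmbedded
import Cfsg.Agent.ThreeCC.Groups
import Cfsg.Agent.Recog.RankOneSuzuki.Corollaries
import Mathlib.GroupTheory.GroupAction.FixingSubgroup
import Mathlib.GroupTheory.PGroup

/-!
# Binary coset actions with one class of involutions

Commuting involutions fix the same points, and the stabiliser of that set is strongly embedded.
-/

set_option autoImplicit false
set_option linter.unusedSectionVars false
set_option linter.style.haveILetI false

namespace CfsgLib.BinaryCoset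

open MulAction Subgroup

universe u

variable {G : Type u} [Group G] [Finite G] {H : Subgroup G}

/-- The action on the cosets is binary. -/
def Bin (H : Subgroup G) : Prop :=
  ∀ (n : ℕ) (I J : Fin n → G ⧸ H), 2 ≤ n →
    (∀ i j : Fin n, i ≠ j → ∃ g : G, g • I i = J i ∧ g • I j = J j) → ∃ g : G, ∀ i, g • I i = J i

/-- A binary action realises every finite family of pairs that is realised pairwise. -/
theorem Bin.realise (hb : Bin H) {ι : Type*} [Finite ι] (f f' : ι → G ⧸ H)
    (h : ∀ i j, ∃ g : G, g • f i = f' i ∧ g • f j = f' j) : ∃ g : G, ∀ i, g • f i = f' i := by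
  rcases isEmpty_or_nonempty ι with hι | hι
  · exact ⟨1, fun i => isEmptyElim i⟩
  obtain ⟨n, ⟨e⟩⟩ := Finite.exists_equiv_fin ι
  have i₀ : ι := Classical.arbitrary ι
  let r : Fin (n + 2) → ι := fun i => if hi : (i : ℕ) < n then e.symm ⟨i, hi⟩ else i₀
  obtain ⟨g, hg⟩ := hb (n + 2) (f ∘ r) (f' ∘ r) (by omega) fun i j _ => h _ _
  refine ⟨g, fun i => ?_⟩
  have := hg ⟨e i, by have := (e i).2; omega⟩
  simpa [r, (e i).2] using this

/-- For any `a`, `b` one element fixes what `a` fixes and what `b` fixes, and agrees with `b` on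
what `a * b` fixes. -/
theorem Bin.common (hb : Bin H) (a b : G) :
    ∃ g : G, (∀ x : G ⧸ H, a • x = x → g • x = x) ∧ (∀ x : G ⧸ H, b • x = x → g • x = x) ∧
      ∀ x : G ⧸ H, (a * b) • x = x → g • x = b • x := by
  classical
  let I : {x : G ⧸ H // a • x = x ∨ b • x = x ∨ (a * b) • x = x} → G ⧸ H := Subtype.val
  let J : {x : G ⧸ H // a • x = x ∨ b • x = x ∨ (a * b) • x = x} → G ⧸ H := fun x =>
    if a • x.1 = x.1 ∨ b • x.1 = x.1 then x.1 else b • x.1
  have hrest : ∀ x : {x : G ⧸ H // a • x = x ∨ b • x = x ∨ (a * b) • x = x},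
      ¬(a • x.1 = x.1 ∨ b • x.1 = x.1) → b • x.1 = a⁻¹ • x.1 := by
    intro x hx
    have h := x.2.resolve_left (fun h => hx (Or.inl h)) |>.resolve_left (fun h => hx (Or.inr h))
    rw [eq_inv_smul_iff, ← mul_smul, h]
  obtain ⟨g, hg⟩ := hb.realise I J fun x y => by
    show ∃ g : G, g • x.1 = J x ∧ g • y.1 = J y
    simp only [J]
    split_ifs with hx hy hy
    · exact ⟨1, one_smul _ _, one_smul _ _⟩
    · rcases hx with h | h
      · exact ⟨a⁻¹, inv_smul_eq_iff.2 h.symm, (hrest y hy).symm⟩
      · exact ⟨b, h, rfl⟩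
    · rcases hy with h | h
      · exact ⟨a⁻¹, (hrest x hx).symm, inv_smul_eq_iff.2 h.symm⟩
      · exact ⟨b, rfl, h⟩
    · exact ⟨b, rfl, rfl⟩
  have hl : ∀ x : G ⧸ H, a • x = x ∨ b • x = x → g • x = x := by
    intro x hx
    have := hg ⟨x, hx.elim Or.inl (Or.inr ∘ Or.inl)⟩
    simpa [I, J, hx] using this
  refine ⟨g, fun x h => hl x (Or.inl h), fun x h => hl x (Or.inr h), fun x h => ?_⟩
  by_cases hx : a • x = x ∨ b • x = x
  · rw [hl x hx]
    rcases hx with ha | hb'
    · refine MulAction.injective a ?_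
      show a • x = a • b • x
      rw [ha, ← mul_smul, h]
    · exact hb'.symm
  · have := hg ⟨x, Or.inr (Or.inr h)⟩
    simpa [I, J, hx] using this

/-- The base point. -/
def base (H : Subgroup G) : G ⧸ H := QuotientGroup.mk 1

theorem smul_base_iff {g : G} : g • base H = base H ↔ g ∈ H := StrongEmbed.smul_mk_one_iff

variable [IsSimpleGroup G]

theorem eq_one_of_fix_all (hH : H ≠ ⊤) {g : G} (h : ∀ x : G ⧸ H, g • x = x) : g = 1 := by
  haveI := Recog.RankOneSuzuki.Coroll.faithful_of_simple hH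
  exact FaithfulSMul.eq_of_smul_eq_smul (α := G ⧸ H) fun x => by rw [h, one_smul]

section OneClass

variable (hH : H ≠ ⊤) (heven : Even (Nat.card H))
  (hone : ∀ s t : G, orderOf s = 2 → orderOf t = 2 → IsConj s t) (hb : Bin H)

include heven in
theorem exists_invol_mem : ∃ s ∈ H, orderOf s = 2 := by
  haveI : Fact (Nat.Prime 2) := ⟨Nat.prime_two⟩
  obtain ⟨a, ha⟩ := exists_prime_orderOf_dvd_card' (G := H) 2 (even_iff_two_dvd.1 heven)
  exact ⟨a, a.2, by rwa [Subgroup.orderOf_coe]⟩

include hone in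
theorem card_fix_eq {s t : G} (hs : orderOf s = 2) (ht : orderOf t = 2) :
    Nat.card {x : G ⧸ H // s • x = x} = Nat.card {x : G ⧸ H // t • x = x} := by
  obtain ⟨c, hc⟩ := isConj_iff.1 (hone s t hs ht)
  refine Nat.card_congr ((MulAction.toPerm c).subtypeEquiv fun x => ?_)
  show s • x = x ↔ t • c • x = c • x
  rw [← hc, mul_smul, mul_smul, inv_smul_smul, smul_left_cancel_iff]

include hone in
theorem fix_eq_of_subset {s t : G} (hs : orderOf s = 2) (ht : orderOf t = 2)
    (h : ∀ x : G ⧸ H, s • x = x → t • x = x) {x : G ⧸ H} (hx : t • x = x) : s • x = x := by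
  have he : {y : G ⧸ H | s • y = y} = {y | t • y = y} :=
    Set.eq_of_subset_of_ncard_le h (by
      rw [← Nat.card_coe_set_eq, ← Nat.card_coe_set_eq]
      exact (card_fix_eq hone hs ht).ge) (Set.toFinite _)
  have : x ∈ {y : G ⧸ H | s • y = y} := by rw [he]; exact hx
  exact this

include hH hone hb in
/-- Commuting involutions fix the same points. -/
theorem fix_of_commute {s t : G} (hs : orderOf s = 2) (ht : orderOf t = 2) (hc : Commute s t)
    {x : G ⧸ H} (hx : s • x = x) : t • x = x := by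
  by_cases hst : s = t
  · exact hst ▸ hx
  have hu : orderOf (s * t) = 2 := Invol.orderOf_eq_two
    (by rw [hc.symm.mul_mul_mul_comm, Invol.mul_self_eq_one hs, Invol.mul_self_eq_one ht, one_mul])
    fun h => hst (by rw [eq_inv_of_mul_eq_one_left h, Invol.inv_eq_self ht])
  obtain ⟨g, hgs, hgt, hgu⟩ := hb.common s t
  obtain ⟨k, m, hm, he⟩ := Nat.exists_eq_pow_mul_and_not_dvd (isOfFinOrder_of_finite g).orderOf_pos.ne' 2 (by norm_num)
  by_cases hg : g ^ m = 1
  · -- the element fixes what `s * t` fixes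
    obtain ⟨l, hl⟩ := Nat.not_even_iff_odd.1 fun h => hm (even_iff_two_dvd.1 h)
    have hut : ∀ y : G ⧸ H, (s * t) • y = y → t • y = y := by
      intro y hy
      have hty : (s * t) • t • y = t • y := by
        rw [← mul_smul, (hc.mul_left (Commute.refl t)).eq, mul_smul, hy]
      have h2 : ∀ j, (g ^ 2) ^ j • y = y := by
        intro j
        induction j with
        | zero => rw [pow_zero, one_smul]
        | succ j ih =>
          rw [pow_succ, mul_smul, pow_two, mul_smul, hgu y hy, hgu _ hty, ← mul_smul t t,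
            Invol.mul_self_eq_one ht, one_smul, ← pow_two, ih]
      have h3 : g ^ m • y = t • y := by
        rw [hl, pow_succ', pow_mul, mul_smul, h2, hgu y hy]
      rw [hg, one_smul] at h3
      exact h3.symm
    have h1 : ∀ y : G ⧸ H, t • y = y → s • y = y := fun y hy => by
      have h4 := fix_eq_of_subset hone hu ht hut hy
      rwa [mul_smul, hy] at h4
    exact fix_eq_of_subset hone ht hs h1 hx
  · obtain ⟨w, hw, ho⟩ : ∃ w, (∃ j : ℕ, w = g ^ j) ∧ orderOf w = 2 := by
      haveI : Fact (Nat.Prime 2) := ⟨Nat.prime_two⟩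
      have h2 : 2 ∣ orderOf g := by
        rcases Nat.eq_zero_or_pos k with rfl | hk
        · rw [pow_zero, one_mul] at he
          exact absurd (he ▸ pow_orderOf_eq_one g) hg
        · exact he ▸ Dvd.dvd.mul_right (dvd_pow_self 2 hk.ne') m
      refine ⟨g ^ (orderOf g / 2), ⟨_, rfl⟩, ?_⟩
      rw [orderOf_pow_of_dvd (by have := (isOfFinOrder_of_finite g).orderOf_pos; omega) (Nat.div_dvd_of_dvd h2),
        Nat.div_div_self h2 (isOfFinOrder_of_finite g).orderOf_pos.ne']
    obtain ⟨j, rfl⟩ := hw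
    have hpow : ∀ {y : G ⧸ H}, g • y = y → g ^ j • y = y := fun {y} hy =>
      (mem_stabilizer_iff (a := y)).1 (pow_mem (mem_stabilizer_iff.2 hy) j)
    exact fix_eq_of_subset hone ht ho (fun y hy => hpow (hgt y hy)) (hpow (hgs x hx))

end OneClass

/-- A binary action with one class of involutions and stabilisers of even order. -/
structure Hyp (H : Subgroup G) : Prop where
  ne_top : H ≠ ⊤
  even : Even (Nat.card H)
  one : ∀ s t : G, orderOf s = 2 → orderOf t = 2 → IsConj s t
  bin : Bin H

open Pointwise in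
/-- The stabiliser of the fixed points of an involution is strongly embedded, and all its
involutions fix the base point. -/
theorem Hyp.exists_se (hy : Hyp H) :
    ∃ M : Subgroup G, Cfsg.IsStronglyEmbedded M ∧ ∀ s ∈ M, orderOf s = 2 → s ∈ H := by
  haveI := Recog.RankOneSuzuki.Coroll.faithful_of_simple hy.ne_top
  haveI : Fact (Nat.Prime 2) := ⟨Nat.prime_two⟩
  obtain ⟨s₀, hs₀H, hs₀⟩ := exists_invol_mem hy.even
  set F : Set (G ⧸ H) := {x | s₀ • x = x} with hF
  set M : Subgroup G := stabilizer G F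
  have hbase : base H ∈ F := smul_base_iff.2 hs₀H
  set P : Subgroup G := fixingSubgroup G F
  have hs₀P : s₀ ∈ P := (mem_fixingSubgroup_iff G).2 fun y hy' => hy'
  have hPM : P ≤ M := fun g hg => mem_stabilizer_iff.2 (Set.ext fun y => by
    constructor
    · rintro ⟨z, hz, rfl⟩
      show g • z ∈ F
      rwa [(mem_fixingSubgroup_iff G).1 hg z hz]
    · exact fun hy' => ⟨y, hy', (mem_fixingSubgroup_iff G).1 hg y hy'⟩)
  have hfixM : ∀ x ∈ M, orderOf x = 2 → ∀ y ∈ F, x • y = y := by
    intro x hx hx2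
    -- an involution of `P` commuting with `x`
    obtain ⟨z, hzP, hz, hzx⟩ : ∃ z ∈ P, orderOf z = 2 ∧ Commute z x := by
      have hconj : ∀ p ∈ P, x * p * x⁻¹ ∈ P := fun p hp => (mem_fixingSubgroup_iff G).2 fun y hy' => by
        have hy'' : x⁻¹ • y ∈ F := by
          have h1 := mem_stabilizer_iff.1 (inv_mem hx)
          rw [← h1]; exact Set.smul_mem_smul_set hy'
        rw [mul_smul, mul_smul, (mem_fixingSubgroup_iff G).1 hp _ hy'', smul_inv_smul]
      let f : {p : P // orderOf p = 2} → {p : P // orderOf p = 2} := fun p =>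
        ⟨⟨_, hconj _ p.1.2⟩, by rw [← Subgroup.orderOf_coe]; show orderOf (x * _ * x⁻¹) = 2;
                                rw [Invol.orderOf_conj_eq, Subgroup.orderOf_coe, p.2]⟩
      have hff : Function.Involutive f := fun p => Subtype.ext (Subtype.ext (by
        show x * (x * (p.1 : G) * x⁻¹) * x⁻¹ = p.1
        rw [Invol.inv_eq_self hx2, ← mul_assoc, ← mul_assoc, Invol.mul_self_eq_one hx2, one_mul,
          mul_assoc, Invol.mul_self_eq_one hx2, mul_one]))
      have h2 : 2 ∣ Nat.card P := by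
        have := Subgroup.orderOf_dvd_natCard P hs₀P
        rwa [hs₀] at this
      classical
      haveI := Fintype.ofFinite {p : P // orderOf p = 2}
      obtain ⟨p, hp⟩ := Equiv.Perm.exists_fixed_point_of_prime (p := 2) (n := 1)
        (σ := hff.toPerm) (by
          have := ThreeCC.Grp.odd_involutions h2
          rw [Nat.card_eq_fintype_card] at this
          exact fun hd => Nat.not_even_iff_odd.2 this (even_iff_two_dvd.2 hd))
        (by rw [pow_one, sq]; exact Equiv.ext hff)
      refine ⟨p.1, p.1.2, by rw [Subgroup.orderOf_coe, p.2], ?_⟩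
      have h1 : x * (p.1 : G) * x⁻¹ = p.1 := congrArg (fun q => ((q.1 : P) : G)) hp
      exact (mul_inv_eq_iff_eq_mul.1 h1).symm
    intro y hy'
    exact fix_of_commute hy.ne_top hy.one hy.bin hz hx2 hzx ((mem_fixingSubgroup_iff G).1 hzP y hy')
  refine ⟨M, ⟨fun htop => ?_, ?_, fun g hg => ?_⟩, fun x hx hx2 =>
    smul_base_iff.1 (hfixM x hx hx2 _ hbase)⟩
  · refine Invol.ne_one hs₀ (eq_one_of_fix_all hy.ne_top fun y => ?_)
    obtain ⟨g, hg⟩ := exists_smul_eq G (base H) y
    have h1 : g • F = F := mem_stabilizer_iff.1 (show g ∈ M by rw [htop]; trivial)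
    have h2 : y ∈ F := by rw [← hg, ← h1]; exact Set.smul_mem_smul_set hbase
    exact h2
  · have := Subgroup.orderOf_dvd_natCard M (hPM hs₀P)
    rw [hs₀] at this
    exact even_iff_two_dvd.2 this
  · by_contra hev
    obtain ⟨x, hx⟩ := exists_prime_orderOf_dvd_card' (G := ↥(M ⊓ M.map (MulAut.conj g).toMonoidHom)) 2
      (even_iff_two_dvd.1 (Nat.not_odd_iff_even.1 hev))
    rw [← Subgroup.orderOf_coe] at hx
    obtain ⟨hxM, y, hyM, hxy⟩ := x.2
    have hxy' : g * y * g⁻¹ = (x : G) := hxy
    have hy2 : orderOf y = 2 := by rw [← hx, ← hxy', Invol.orderOf_conj_eq]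
    refine hg (mem_stabilizer_iff.2 (Set.eq_of_subset_of_ncard_le (fun z hz => ?_)
      (Set.ncard_smul_set g F).ge (Set.toFinite _)))
    obtain ⟨w, hw, rfl⟩ := hz
    refine fix_eq_of_subset hy.one hs₀ hx (hfixM x hxM hx) ?_
    show (x : G) • g • w = g • w
    rw [← hxy', mul_smul, mul_smul, inv_smul_smul, hfixM y hyM hy2 w hw]

end CfsgLib.BinaryCoset
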