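import Cfsg.Agent.Recog.RankOneSuzuki.Corollaries
import Cfsg.Agent.Recog.RankOneSuzuki.Model
import Cfsg.Agent.Recog.RankOneSuzuki.TwoGroup
import Cfsg.Agent.Invol.StrongEmbedded
import Cfsg.Agent.CITGraph.Models
import Cfsg.Agent.PrimeGraph.SL2Char2
import Cfsg.Agent.Invol.ElementaryCentralizers
import Cfsg.Agent.Suzuki.Sylow
import Cfsg.Agent.Classical.Transvections

/-!
# Strongly embedded subgroups of the rank one groups of even characteristic
-/

set_option autoImplicit false
set_option linter.unusedSectionVars false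
set_option linter.style.haveILetI false

namespace CfsgLib.BinaryCoset

open MulAction Subgroup

universe u v

theorem se_comap {G : Type u} {K : Type v} [Group G] [Group K] (e : G ≃* K) {B : Subgroup K}
    (h : Cfsg.IsStronglyEmbedded B) : Cfsg.IsStronglyEmbedded (B.comap e.toMonoidHom) := by
  refine ⟨fun ht => h.1 (eq_top_iff.2 fun k _ => ?_), ?_, fun g hg => ?_⟩
  · have hk : e.symm k ∈ B.comap e.toMonoidHom := ht ▸ mem_top _
    simpa using hk
  · rw [show Nat.card (B.comap e.toMonoidHom) = Nat.card B from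
      Nat.card_congr (e.toEquiv.subtypeEquiv fun _ => Iff.rfl)]
    exact h.2.1
  · have hcard : Nat.card ↥((B.comap e.toMonoidHom) ⊓
        (B.comap e.toMonoidHom).map (MulAut.conj g).toMonoidHom) =
        Nat.card ↥(B ⊓ B.map (MulAut.conj (e g)).toMonoidHom) := by
      refine Nat.card_congr (e.toEquiv.subtypeEquiv fun x => ⟨?_, ?_⟩)
      · rintro ⟨hx, y, hy, rfl⟩
        exact ⟨hx, e y, hy, by simp⟩
      · rintro ⟨hx, y, hy, hxy⟩
        refine ⟨hx, e.symm y, by simpa using hy, ?_⟩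
        refine e.injective ?_
        simpa using hxy
    rw [hcard]
    exact h.2.2 _ hg

theorem exists_se_psu {G : Type u} [Group G] {F : Type} [Field F] [Fintype F] {n : ℕ}
    (hn : 2 ≤ n) (hc : Fintype.card F = (2 ^ n) ^ 2) (e : G ≃* Cfsg.PSU 3 F (2 ^ n)) :
    ∃ M : Subgroup G, Cfsg.IsStronglyEmbedded M := by
  obtain ⟨Om, _, _, a, t, Q, hS, h2, -⟩ := Recog.RankOneSuzuki.exists_psu_setup hn hc
  obtain ⟨S⟩ := Recog.RankOneSuzuki.exists_data hS h2
  exact ⟨_, se_comap e S.stronglyEmbedded⟩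

theorem exists_se_sz {G : Type u} [Group G] [Finite G] (h : Cfsg.Lie.IsoSuzuki G) :
    ∃ M : Subgroup G, Cfsg.IsStronglyEmbedded M := by
  obtain ⟨F, i1, i2, m, hm, hc, ⟨e⟩⟩ := h
  have hz := Suzuki.isSzField_of_card hm hc
  haveI := Suzuki.finite_G hz
  refine ⟨_, se_comap (e.trans (Suzuki.lieEquiv hz).symm) (B := Suzuki.borel F m) ⟨?_, ?_, ?_⟩⟩
  · exact Suzuki.borel_ne_top hz
  · rw [Suzuki.card_borel hz, hz.card]
    exact ((even_two.pow_of_ne_zero (by omega)).pow_of_ne_zero two_ne_zero).mul_right _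
  · intro g hg
    by_contra hev
    haveI : Fact (Nat.Prime 2) := ⟨Nat.prime_two⟩
    obtain ⟨x, hx⟩ := exists_prime_orderOf_dvd_card'
      (G := ↥(Suzuki.borel F m ⊓ (Suzuki.borel F m).map (MulAut.conj g).toMonoidHom)) 2
      (even_iff_two_dvd.1 (Nat.not_odd_iff_even.1 hev))
    rw [← Subgroup.orderOf_coe] at hx
    obtain ⟨hxB, y, hy, hxy⟩ := x.2
    have hxy' : g * y * g⁻¹ = (x : Suzuki.SzG F m) := hxy
    have hy2 : orderOf y = 2 := by rw [← hx, ← hxy', Invol.orderOf_conj_eq]
    have key : ∀ w ∈ Suzuki.borel F m, orderOf w = 2 → w ∈ Suzuki.unip hz := by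
      intro w hw hw2
      haveI : ((Suzuki.unip hz).subgroupOf (Suzuki.borel F m)).Normal :=
        (normal_subgroupOf_iff_le_normalizer (by
          rw [← Suzuki.normalizer_unip hz]; exact le_normalizer)).2 (Suzuki.borel_le_normalizer hz)
      have hle : Suzuki.unip hz ≤ Suzuki.borel F m := by
        rw [← Suzuki.normalizer_unip hz]; exact le_normalizer
      have hidx : Odd ((Suzuki.unip hz).subgroupOf (Suzuki.borel F m)).index := by
        have h1 := Subgroup.card_mul_index ((Suzuki.unip hz).subgroupOf (Suzuki.borel F m))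
        rw [Nat.card_congr (subgroupOfEquivOfLe hle).toEquiv, Suzuki.card_unip hz,
          Suzuki.card_borel hz] at h1
        have h2 := Nat.eq_of_mul_eq_mul_left (pow_pos Nat.card_pos 2) h1
        rw [h2, hz.card]
        exact Nat.Even.sub_odd Nat.one_le_two_pow (even_two.pow_of_ne_zero (by omega)) odd_one
      have h3 : orderOf ((⟨w, hw⟩ : Suzuki.borel F m) :
          Suzuki.borel F m ⧸ (Suzuki.unip hz).subgroupOf (Suzuki.borel F m)) = 1 := by
        have hd : orderOf ((⟨w, hw⟩ : Suzuki.borel F m) :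
            Suzuki.borel F m ⧸ (Suzuki.unip hz).subgroupOf (Suzuki.borel F m)) ∣ 2 := by
          have := orderOf_map_dvd (QuotientGroup.mk' ((Suzuki.unip hz).subgroupOf (Suzuki.borel F m)))
            (⟨w, hw⟩ : Suzuki.borel F m)
          rwa [Subgroup.orderOf_mk, hw2] at this
        rcases (Nat.dvd_prime Nat.prime_two).1 hd with e' | e'
        · exact e'
        · have h4 := _root_.orderOf_dvd_natCard ((⟨w, hw⟩ : Suzuki.borel F m) :
            Suzuki.borel F m ⧸ (Suzuki.unip hz).subgroupOf (Suzuki.borel F m))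
          rw [e', ← Subgroup.index_eq_card] at h4
          exact absurd (even_iff_two_dvd.2 h4) (Nat.not_even_iff_odd.2 hidx)
      exact mem_subgroupOf.1 ((QuotientGroup.eq_one_iff _).1 (orderOf_eq_one_iff.1 h3))
    refine hg (Suzuki.mem_borel_of_conj_mem_unip hz (key y hy hy2) (Invol.ne_one hy2) ?_)
    rw [hxy']
    exact key _ hxB hx

theorem sq_eq_one_psl {F : Type} [Field F] [Fintype F] {n : ℕ} (hn : 1 ≤ n)
    (hc : Fintype.card F = 2 ^ n) {x : Matrix.ProjectiveSpecialLinearGroup (Fin 2) F} {i : ℕ}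
    (hx : x ^ 2 ^ i = 1) : x ^ 2 = 1 := by
  have heven : Even (2 ^ n) := even_two.pow_of_ne_zero (by omega)
  rcases CITGraph.spectrum_psl hn hc x with h | h | h
  · exact orderOf_dvd_iff_pow_eq_one.1 h
  all_goals
    rw [show x = 1 from orderOf_eq_one_iff.1 (Nat.eq_one_of_dvd_coprimes
      ((Nat.coprime_two_left.2 ?_).pow_left i) (orderOf_dvd_of_pow_eq_one hx) h), one_pow]
  · exact Nat.Even.sub_odd Nat.one_le_two_pow heven odd_one
  · exact heven.add_one

theorem exists_se_psl {G : Type u} [Group G] [Finite G] [IsSimpleGroup G] {F : Type} [Field F]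
    [Fintype F] {n : ℕ} (hn : 2 ≤ n) (hc : Fintype.card F = 2 ^ n)
    (e : G ≃* Matrix.ProjectiveSpecialLinearGroup (Fin 2) F) :
    ∃ M : Subgroup G, Cfsg.IsStronglyEmbedded M := by
  classical
  haveI : Fact (Nat.Prime 2) := ⟨Nat.prime_two⟩
  have hcard := CITGraph.card_psl_two_pow (F := F) (by omega) hc
  rw [← Nat.card_congr e.toEquiv] at hcard
  have hsq : ∀ {x : G} {i : ℕ}, x ^ 2 ^ i = 1 → x ^ 2 = 1 := fun {x i} h => by
    refine e.injective ?_
    rw [map_pow, map_one]
    exact sq_eq_one_psl (by omega) hc (i := i) (by rw [← map_pow, h, map_one])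
  have hcit := CITGraph.isCIT_psl (F := F) (by omega) hc
  obtain ⟨S⟩ : Nonempty (Sylow 2 G) := inferInstance
  have hcent : ∀ t : G, orderOf t = 2 → IsMulCommutative (centralizer ({t} : Set G)) ∧
      ∀ c ∈ centralizer ({t} : Set G), c ^ 2 = 1 := by
    intro t ht
    have hc2 : ∀ c ∈ centralizer ({t} : Set G), c ^ 2 = 1 := by
      intro c hc'
      obtain ⟨i, hi⟩ := hcit (e t) (by rw [e.orderOf_eq]; exact ht) ⟨e c, mem_centralizer_singleton_iff.2 (by
        rw [← map_mul, ← map_mul, mem_centralizer_singleton_iff.1 hc'])⟩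
      refine hsq (i := i) (e.injective ?_)
      rw [map_pow, map_one]
      exact congrArg Subtype.val hi
    have hinv : ∀ z : centralizer ({t} : Set G), z⁻¹ = z := fun z => inv_eq_of_mul_eq_one_right
      (Subtype.ext (by rw [← pow_two]; exact hc2 z z.2))
    refine ⟨⟨⟨fun a b => ?_⟩⟩, hc2⟩
    calc a * b = (a * b)⁻¹ := (hinv _).symm
      _ = b * a := by rw [mul_inv_rev, hinv a, hinv b]
  obtain ⟨k, hk⟩ : ∃ k, Nat.card (S : Subgroup G) = 2 ^ k := IsPGroup.iff_card.1 S.2
  have hsplit : (2 ^ n) ∣ Nat.card (S : Subgroup G) := by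
    rw [S.card_eq_multiplicity]
    exact pow_dvd_pow 2 ((Nat.prime_two.pow_dvd_iff_le_factorization Nat.card_pos.ne').1
      (hcard ▸ dvd_mul_right _ _))
  have h4 : 4 ≤ Nat.card (S : Subgroup G) :=
    le_trans ((show (4 : ℕ) = 2 ^ 2 by norm_num) ▸ Nat.pow_le_pow_right (by norm_num) hn)
      (Nat.le_of_dvd Nat.card_pos hsplit)
  refine ⟨_, EACent.stronglyEmbedded (T := S) ⟨fun hcyc => ?_, fun hnor => ?_, hcent⟩⟩
  · obtain ⟨g, hg⟩ := IsCyclic.exists_generator (α := (S : Subgroup G))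
    have h1 : orderOf g = Nat.card (S : Subgroup G) := by
      rw [orderOf_eq_card_of_forall_mem_zpowers hg]
    obtain ⟨i, hi⟩ := S.2 g
    have h2 : orderOf g ∣ 2 := by
      rw [← Subgroup.orderOf_coe]
      exact orderOf_dvd_of_pow_eq_one (hsq (i := i) (congrArg Subtype.val hi))
    have := Nat.le_of_dvd two_pos h2
    omega
  · rcases hnor.eq_bot_or_eq_top with h | h
    · rw [h, Subgroup.card_bot] at h4; omega
    · have h1 : Nat.card G = 2 ^ k := by rw [← hk, h, Subgroup.card_top]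
      have h2 : (2 ^ n + 1) ∣ Nat.card G := hcard ▸ Dvd.dvd.mul_left ⟨2 ^ n - 1, by
          rw [← Nat.sq_sub_sq, one_pow]⟩ _
      have h3 : Nat.Coprime (2 ^ k) (2 ^ n + 1) := Nat.Coprime.pow_left _
        (Nat.coprime_two_left.2 (even_two.pow_of_ne_zero (by omega)).add_one)
      have h5 := Nat.eq_one_of_dvd_coprimes h3 (h1 ▸ h2) dvd_rfl
      have := Nat.two_pow_pos n
      omega

end CfsgLib.BinaryCoset
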