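import Cfsg.Agent.Binary.Forward
import Cfsg.Agent.Binary.Embedded

/-!
# The involutions of a Sylow 2-subgroup give a binary action
-/

set_option autoImplicit false
set_option linter.unusedSectionVars false
set_option linter.style.haveILetI false

namespace CfsgLib.BinaryCoset

open MulAction Subgroup

universe u

variable {G : Type u} [Group G] [Finite G] [IsSimpleGroup G] {M T : Subgroup G}

theorem bin_Z (P : Pair M T) : Bin P.Z := by
  intro n I J hn hpair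
  classical
  have hle : P.Z ≤ M := P.Z_le.trans P.le
  let pr : G ⧸ P.Z → G ⧸ M := Quotient.map' id fun a b h => by
    rw [QuotientGroup.leftRel_apply] at h ⊢; exact hle h
  have hpr : ∀ (g : G) (x : G ⧸ P.Z), pr (g • x) = g • pr x := fun g x => by
    induction x using QuotientGroup.induction_on with | H z => rfl
  have hmem : ∀ (u : G) (x : G ⧸ P.Z), u • x = x ↔ u * u = 1 ∧ u • pr x = pr x := by
    intro u x
    obtain ⟨c, rfl⟩ := exists_smul_eq G (base P.Z) x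
    have e1 : u • c • base P.Z = c • base P.Z ↔ c⁻¹ * u * c ∈ P.Z := by
      rw [← smul_base_iff (H := P.Z), mul_smul, mul_smul, inv_smul_eq_iff]
    have e2 : u • pr (c • base P.Z) = pr (c • base P.Z) ↔ c⁻¹ * u * c ∈ M := by
      rw [hpr, show pr (base P.Z) = pt M from rfl, ← smul_pt_iff (M := M), mul_smul, mul_smul,
        inv_smul_eq_iff]
    have e3 : c⁻¹ * u * c * (c⁻¹ * u * c) = c⁻¹ * (u * u) * c := by group
    rw [e1, e2]
    constructor
    · exact fun h => ⟨by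
        have := h.2
        rw [e3] at this
        calc u * u = c * (c⁻¹ * (u * u) * c) * c⁻¹ := by group
          _ = 1 := by rw [this]; group, hle h⟩
    · rintro ⟨h1, h2⟩
      exact P.mem_Z_of_mem h2 (by rw [e3, h1, mul_one, inv_mul_cancel])
  by_cases hall : ∀ i j, pr (I i) = pr (I j)
  · let i₀ : Fin n := ⟨0, by omega⟩
    let i₁ : Fin n := ⟨1, by omega⟩
    obtain ⟨g, hg, -⟩ := hpair i₀ i₁ (by simp [i₀, i₁])
    refine ⟨g, fun i => ?_⟩
    by_cases hi : i₀ = i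
    · rw [← hi]; exact hg
    obtain ⟨k, hk, hk'⟩ := hpair i₀ i hi
    have h1 : (k⁻¹ * g) • I i₀ = I i₀ := by rw [mul_smul, hg, ← hk, inv_smul_smul]
    have h2 : (k⁻¹ * g) • I i = I i := by rw [hmem] at h1 ⊢; rwa [hall i i₀]
    rwa [mul_smul, inv_smul_eq_iff, hk'] at h2
  push Not at hall
  obtain ⟨i₀, i₁, hne⟩ := hall
  obtain ⟨g, hg0, hg1⟩ := hpair i₀ i₁ fun e => hne (e ▸ rfl)
  refine ⟨g, fun i => ?_⟩
  by_cases hi0 : i₀ = i
  · rw [← hi0]; exact hg0
  by_cases hi1 : i₁ = i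
  · rw [← hi1]; exact hg1
  obtain ⟨a, ha0, hai⟩ := hpair i₀ i hi0
  obtain ⟨b, hb1, hbi⟩ := hpair i₁ i hi1
  obtain ⟨a', ha'⟩ : ∃ w, w = g⁻¹ * a := ⟨_, rfl⟩
  obtain ⟨b', hb'⟩ : ∃ w, w = g⁻¹ * b := ⟨_, rfl⟩
  have e0 : a' • I i₀ = I i₀ := by rw [ha', mul_smul, ha0, ← hg0, inv_smul_smul]
  have e1 : b' • I i₁ = I i₁ := by rw [hb', mul_smul, hb1, ← hg1, inv_smul_smul]
  have e2 : (b'⁻¹ * a') • I i = I i := by
    rw [ha', hb', mul_smul, mul_smul, hai, inv_smul_eq_iff, mul_smul, hbi]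
  suffices h1 : a' • I i = I i by
    rw [ha', mul_smul, inv_smul_eq_iff, hai] at h1
    exact h1.symm
  rw [hmem] at e0 e1 e2 ⊢
  refine ⟨e0.1, ?_⟩
  by_cases hp0 : pr (I i) = pr (I i₀)
  · rw [hp0]; exact e0.2
  have ha1 : a' = 1 := by
    by_contra ha
    have ha2 : orderOf a' = 2 := Invol.orderOf_eq_two e0.1 ha
    by_cases hb : b' = 1
    · rw [hb, inv_one, one_mul] at e2
      exact hp0 (StrongEmbed.fix_unique P.se ha2 e2.2 e0.2)
    have hb2 : orderOf b' = 2 := Invol.orderOf_eq_two e1.1 hb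
    by_cases hc : b'⁻¹ * a' = 1
    · rw [inv_mul_eq_one] at hc
      exact hne (StrongEmbed.fix_unique P.se ha2 e0.2 (hc ▸ e1.2))
    have hc2 : orderOf (b'⁻¹ * a') = 2 := Invol.orderOf_eq_two e2.1 hc
    have hcomm : Commute a' b' := by
      have h := e2.1
      rw [Invol.inv_eq_self hb2] at h
      show a' * b' = b' * a'
      calc a' * b' = b' * (b' * a' * (b' * a')) * a' := by
            simp only [mul_assoc, e0.1, mul_one]
            rw [← mul_assoc b' b', e1.1, one_mul]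
        _ = _ := by rw [h, mul_one]
    exact hne (P.fix_eq_of_commute ha2 hb2 hcomm e0.2 e1.2)
  rw [ha1, one_smul]

/-- The converse direction. -/
theorem converse (hB : Bender.Consumers.Structure.{u}) {H : Subgroup G}
    (h : ((∃ (F : Type) (_ : Field F) (_ : Fintype F) (a : ℕ), 2 ≤ a ∧ Fintype.card F = 2 ^ a ∧
        Nonempty (G ≃* Matrix.SpecialLinearGroup (Fin 2) F)) ∧ ∃ S : Sylow 2 G, H = S) ∨
    (Cfsg.Lie.IsoSuzuki G ∧
      ∃ S : Sylow 2 G, H = (Subgroup.center (S : Subgroup G)).map (S : Subgroup G).subtype) ∨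
    ((∃ (F : Type) (_ : Field F) (_ : Fintype F) (a : ℕ), 2 ≤ a ∧ Fintype.card F = (2 ^ a) ^ 2 ∧
        Nonempty (G ≃* Cfsg.PSU 3 F (2 ^ a))) ∧
      ∃ S : Sylow 2 G, H = (Subgroup.center (S : Subgroup G)).map (S : Subgroup G).subtype)) :
    Bin H := by
  classical
  haveI : Fact (Nat.Prime 2) := ⟨Nat.prime_two⟩
  obtain ⟨S, M, hse, hH⟩ : ∃ (S : Sylow 2 G) (M : Subgroup G), Cfsg.IsStronglyEmbedded M ∧
      ((H = S ∧ ∀ x ∈ (S : Subgroup G), x * x = 1) ∨
        H = (Subgroup.center (S : Subgroup G)).map (S : Subgroup G).subtype) := by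
    rcases h with ⟨⟨F, i1, i2, n, hn, hc, ⟨e⟩⟩, S, rfl⟩ | ⟨hSz, S, rfl⟩ |
      ⟨⟨F, i1, i2, n, hn, hc, ⟨e⟩⟩, S, rfl⟩
    · haveI := charP_of_card_eq_prime_pow hc
      have e' := e.trans SL2Char2.slEquivPSL
      obtain ⟨M, hM⟩ := exists_se_psl hn hc e'
      refine ⟨S, M, hM, Or.inl ⟨rfl, fun x hx => ?_⟩⟩
      obtain ⟨i, hi⟩ := S.2 ⟨x, hx⟩
      have hi' : x ^ 2 ^ i = 1 := congrArg Subtype.val hi
      refine e'.injective ?_
      rw [← pow_two, map_pow, map_one]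
      exact sq_eq_one_psl (by omega) hc (i := i) (by rw [← map_pow, hi', map_one])
    · obtain ⟨M, hM⟩ := exists_se_sz hSz
      exact ⟨S, M, hM, Or.inr rfl⟩
    · obtain ⟨M, hM⟩ := exists_se_psu hn hc e
      exact ⟨S, M, hM, Or.inr rfl⟩
  -- a conjugate of `M` contains `S`
  obtain ⟨T₀, P₀⟩ := exists_pair hB hse
  obtain ⟨S₀, hS₀⟩ := P₀.exists_sylow
  obtain ⟨g, hg⟩ := MulAction.exists_smul_eq G S S₀
  have hse' : Cfsg.IsStronglyEmbedded (M.comap (MulAut.conj g).toMonoidHom) := se_comap _ hse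
  obtain ⟨T, P⟩ := exists_pair hB hse'
  have hST : (S : Subgroup G) = T := by
    have hle : (S : Subgroup G) ≤ T := by
      intro x hx
      obtain ⟨i, hi⟩ := S.2 ⟨x, hx⟩
      refine P.two_mem (P₀.le ?_) (i := i) (congrArg Subtype.val hi)
      rw [← hS₀, ← hg]
      exact ⟨x, hx, rfl⟩
    exact (S.3 P.two hle).symm
  suffices hZ : H = P.Z from hZ ▸ bin_Z P
  rcases hH with ⟨rfl, hx2⟩ | rfl
  · ext x
    rw [P.mem_Z, ← hST]
    exact ⟨fun hx => ⟨hx, hx2 x hx⟩, fun h => h.1⟩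
  · ext x
    constructor
    · rintro ⟨⟨w, hw⟩, hwc, rfl⟩
      have hcomm : ∀ y ∈ T, w * y = y * w := fun y hy =>
        (congrArg Subtype.val (Subgroup.mem_center_iff.1 hwc ⟨y, hST ▸ hy⟩)).symm
      rcases cases P with hT | ⟨-, ⟨Fr⟩⟩ | ⟨-, ⟨Fr⟩⟩
      · exact hT (hST ▸ hw)
      · exact center_le_Z Fr (hST ▸ hw) hcomm
      · exact center_le_Z Fr (hST ▸ hw) hcomm
    · rintro ⟨hx, hx2⟩
      exact ⟨⟨x, hST ▸ hx⟩, Subgroup.mem_center_iff.2 fun w => Subtype.ext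
        (P.central x hx hx2 w (hST ▸ w.2)).symm, rfl⟩

/-- Binary coset actions with one class of involutions, from the structure theorem for strongly
embedded subgroups. -/
theorem main (hB : Bender.Consumers.Structure.{u})
    (hone : ∀ s t : G, orderOf s = 2 → orderOf t = 2 → IsConj s t) (H : Subgroup G) (hH : H ≠ ⊤)
    (heven : Even (Nat.card H)) :
    Bin H ↔
    (((∃ (F : Type) (_ : Field F) (_ : Fintype F) (a : ℕ), 2 ≤ a ∧ Fintype.card F = 2 ^ a ∧
        Nonempty (G ≃* Matrix.SpecialLinearGroup (Fin 2) F)) ∧ ∃ S : Sylow 2 G, H = S) ∨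
    (Cfsg.Lie.IsoSuzuki G ∧
      ∃ S : Sylow 2 G, H = (Subgroup.center (S : Subgroup G)).map (S : Subgroup G).subtype) ∨
    ((∃ (F : Type) (_ : Field F) (_ : Fintype F) (a : ℕ), 2 ≤ a ∧ Fintype.card F = (2 ^ a) ^ 2 ∧
        Nonempty (G ≃* Cfsg.PSU 3 F (2 ^ a))) ∧
      ∃ S : Sylow 2 G, H = (Subgroup.center (S : Subgroup G)).map (S : Subgroup G).subtype)) :=
  ⟨fun hb => forward hB ⟨hH, heven, hone, hb⟩, converse hB⟩

end CfsgLib.BinaryCoset
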