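import Cfsg.Agent.Binary.Orbit
import Mathlib.GroupTheory.GroupAction.Quotient

/-!
# The 2-subgroup is not contained in the stabiliser
-/

set_option autoImplicit false
set_option linter.unusedSectionVars false
set_option linter.style.haveILetI false

namespace CfsgLib.BinaryCoset

open MulAction Subgroup

universe u

variable {G : Type u} [Group G] [Finite G] [IsSimpleGroup G] {M T H : Subgroup G} {P : Pair M T}

theorem false_of_T_fix (Fr : Frame P) (hb : Bin H) (hle : H ≤ M)
    (hT : ∀ y ∈ T, y • base H = base H) : False := by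
  classical
  set t := Fr.t
  have htt : t * t = 1 := Invol.mul_self_eq_one Fr.ht
  have htsmul : ∀ {α : Type u} [MulAction G α] (x : α), t • t • x = x := fun {α} _ x => by
    rw [← mul_smul, htt, one_smul]
  set D := dd M t
  set A := MulAction.orbit D (base H)
  have htp : t • pt M ≠ pt M := fun e => Fr.htM (smul_pt_iff.1 e)
  -- points over `pt M` are in `A`
  have hcover : ∀ m ∈ M, m • base H ∈ A := by
    intro m hm
    obtain ⟨z, hz, e, he, rfl⟩ := P.exists_decomp Fr.htM hm
    refine ⟨⟨e, he⟩, ?_⟩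
    show e • base H = (z * e) • base H
    rw [show z * e = e * (e⁻¹ * z * e) by group, mul_smul, hT _ (P.norm' (dd_le he) hz)]
  have hTA : ∀ y ∈ T, ∀ a ∈ A, y • a = a := by
    rintro y hy _ ⟨⟨e, he⟩, rfl⟩
    show y • e • base H = e • base H
    rw [← mul_smul, show y * e = e * (e⁻¹ * y * e) by group, mul_smul, hT _ (P.norm' (dd_le he) hy)]
  -- the point of `G ⧸ M` under a point
  let pr : G ⧸ H → G ⧸ M := Quotient.map' id fun a b h => by
    rw [QuotientGroup.leftRel_apply] at h ⊢; exact hle h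
  have hpr : ∀ (g : G) (x : G ⧸ H), pr (g • x) = g • pr x := fun g x => by
    induction x using QuotientGroup.induction_on with | H z => rfl
  have hprA : ∀ a ∈ A, pr a = pt M := by
    rintro _ ⟨⟨e, he⟩, rfl⟩
    show pr (e • base H) = pt M
    rw [hpr]
    exact smul_pt_iff.2 (dd_le he)
  have hAof : ∀ x, pr x = pt M → x ∈ A := by
    intro x hx
    obtain ⟨g, rfl⟩ := exists_smul_eq G (base H) x
    rw [hpr] at hx
    exact hcover g (smul_pt_iff.1 hx)
  -- the label of a point over a third point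
  have hlab : ∀ (a : A) (y : {y : T // y ≠ 1}), ∃ (b : A) (y' : T),
      (y.1 : G) • t • (a : G ⧸ H) = t • (y' : G) • t • (b : G ⧸ H) := by
    intro a y
    set w := (y.1 : G) • t • (a : G ⧸ H) with hw
    have hpw : pr w = (y.1 : G) • t • pt M := by rw [hw, hpr, hpr, hprA _ a.2]
    have h1 : t • pr w ≠ pt M := by
      intro e
      have : (y.1 : G) • t • pt M = t • pt M := by rw [← hpw, ← e, htsmul]
      exact y.2 (Subtype.ext (P.eq_one_of_fix htp y.1.2 this))
    obtain ⟨y', hy', hyy⟩ := P.exists_smul htp h1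
    refine ⟨⟨t • y'⁻¹ • t • w, hAof _ (by rw [hpr, hpr, hpr, ← hyy, inv_smul_smul, htsmul])⟩,
      ⟨y', hy'⟩, ?_⟩
    show w = t • y' • t • t • y'⁻¹ • t • w
    rw [htsmul, smul_inv_smul, htsmul]
  choose lab ylab hlab' using hlab
  -- representatives of the fibres of the label
  set DH := (MulAction.stabilizer D (base H))
  have hreal : ∀ (a : A) (y y' : {y : T // y ≠ 1}), lab a y = lab a y' →
      ∃ g : DH, ((g : D) : G) • (y.1 : G) • t • (a : G ⧸ H) = (y'.1 : G) • t • (a : G ⧸ H) := by
    intro a y y' hab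
    set w := (y.1 : G) • t • (a : G ⧸ H) with hw
    set w' := (y'.1 : G) • t • (a : G ⧸ H) with hw'
    have hTt : ∀ z ∈ T, (t * z * t) • t • base H = t • base H := fun z hz => by
      rw [mul_smul, htsmul, mul_smul, hT z hz]
    have e1 : ((y'.1 : G) * (y.1 : G)⁻¹) • w = w' := by rw [hw, hw', mul_smul, inv_smul_smul]
    have e2 : (t * ((ylab a y' : G) * (ylab a y : G)⁻¹) * t) • w = w' := by
      rw [mul_smul, mul_smul, show t • w = (ylab a y : G) • t • (lab a y : G ⧸ H) by
        rw [hw, hlab' a y, htsmul], mul_smul, inv_smul_smul, hw', hlab' a y', hab]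
    obtain ⟨g, hg⟩ := hb.realise ![base H, t • base H, w] ![base H, t • base H, w'] fun i j => by
      have hA : ∃ g : G, g • base H = base H ∧ g • w = w' :=
        ⟨_, hT _ (mul_mem y'.1.2 (inv_mem y.1.2)), e1⟩
      have hB' : ∃ g : G, g • t • base H = t • base H ∧ g • w = w' :=
        ⟨_, hTt _ (mul_mem (ylab a y').2 (inv_mem (ylab a y).2)), e2⟩
      fin_cases i <;> fin_cases j <;> simp only [Matrix.cons_val_zero, Matrix.cons_val_one,
        Matrix.cons_val, Fin.zero_eta, Fin.mk_one, Fin.reduceFinMk]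
      · exact ⟨1, one_smul _ _, one_smul _ _⟩
      · exact ⟨1, one_smul _ _, one_smul _ _⟩
      · exact hA
      · exact ⟨1, one_smul _ _, one_smul _ _⟩
      · exact ⟨1, one_smul _ _, one_smul _ _⟩
      · exact hB'
      · exact hA.imp fun _ h => ⟨h.2, h.1⟩
      · exact hB'.imp fun _ h => ⟨h.2, h.1⟩
      · exact hA.elim fun g h => ⟨g, h.2, h.2⟩
    have h0 : g • base H = base H := by simpa using hg 0
    have h1 : g • t • base H = t • base H := by simpa using hg 1
    have h2 : g • w = w' := by simpa using hg 2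
    have hgD : g ∈ D := by
      refine ⟨mem_stabilizer_iff.2 (smul_pt_iff.2 (hle (smul_base_iff.1 h0))), mem_stabilizer_iff.2 ?_⟩
      have := congrArg pr h1
      rw [hpr, hpr] at this
      exact this
    exact ⟨⟨⟨g, hgD⟩, h0⟩, h2⟩
  -- the count
  let r : A → A → {y : T // y ≠ 1} → {y : T // y ≠ 1} := fun a b y =>
    if h : ∃ y₀, lab a y₀ = b then h.choose else y
  have hr : ∀ a y, lab a (r a (lab a y) y) = lab a y := fun a y => by
    have h : ∃ y₀, lab a y₀ = lab a y := ⟨y, rfl⟩
    simp only [r, dif_pos h]; exact h.choose_spec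
  have hr' : ∀ a b y y', lab a y = b → lab a y' = b → r a b y = r a b y' := fun a b y y' hy _ => by
    have h : ∃ y₀, lab a y₀ = b := ⟨y, hy⟩
    simp only [r, dif_pos h]
  choose gg hgg using hreal
  let f : A × {y : T // y ≠ 1} → A × A × DH := fun ay =>
    (ay.1, lab ay.1 ay.2, gg ay.1 _ ay.2 (hr ay.1 ay.2))
  have hf : Function.Injective f := by
    rintro ⟨a, y⟩ ⟨a', y'⟩ he
    obtain ⟨rfl, he1, he2⟩ : a = a' ∧ lab a y = lab a' y' ∧
        gg a _ y (hr a y) = gg a' _ y' (hr a' y') := by
      simpa [f] using he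
    have hrr : r a (lab a y) y = r a (lab a y') y' := by
      rw [← he1]; exact hr' a _ _ _ rfl he1.symm
    have h3 := hgg a _ y (hr a y)
    have h4 := hgg a _ y' (hr a y')
    rw [he2, hrr, h4] at h3
    have h5 := congrArg pr h3
    rw [hpr, hpr, hpr, hpr, hprA _ a.2] at h5
    have h6 : (y'.1 : G)⁻¹ * (y.1 : G) = 1 := P.eq_one_of_fix htp
      (mul_mem (inv_mem y'.1.2) y.1.2) (by rw [mul_smul, ← h5, inv_smul_smul])
    rw [Prod.mk.injEq]
    exact ⟨rfl, Subtype.ext (Subtype.ext (inv_mul_eq_one.1 h6).symm)⟩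
  have h1 := Nat.card_le_card_of_injective f hf
  rw [Nat.card_prod, Nat.card_prod, Nat.card_prod] at h1
  have horb : Nat.card A * Nat.card DH = Nat.card D := by
    rw [← Nat.card_prod]
    exact Nat.card_congr (MulAction.orbitProdStabilizerEquivGroup D (base H))
  rw [horb] at h1
  have hA0 : 0 < Nat.card A := Nat.card_pos_iff.2 ⟨⟨⟨base H, MulAction.mem_orbit_self _⟩⟩, inferInstance⟩
  have h2 : Nat.card {y : T // y ≠ 1} + 1 = Nat.card T := by
    rw [← Nat.card_congr (Equiv.optionSubtypeNe (1 : T)), Finite.card_option]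
  have h3 : Nat.card D + 1 < Nat.card T := Fr.small
  have h4 := Nat.le_of_mul_le_mul_left h1 hA0
  omega

end CfsgLib.BinaryCoset
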