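import Cfsg.Agent.Binary.Fibre

/-!
# An element of odd order in the stabiliser forces the whole 2-subgroup into it
-/

set_option autoImplicit false
set_option linter.unusedSectionVars false
set_option linter.style.haveILetI false
set_option maxHeartbeats 800000

namespace CfsgLib.BinaryCoset

open MulAction Subgroup

universe u

variable {G : Type u} [Group G] [Finite G] [IsSimpleGroup G] {M T H : Subgroup G} {P : Pair M T}

/-- Elements of `T` moving one point of `rel x` to another fix `x`. -/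
def Sharp (_P : Pair M T) {H : Subgroup G} (x : G ⧸ H) : Prop :=
  ∀ y ∈ T, ∀ p : G ⧸ M, p ≠ pt M → rel M x p → rel M x (y • p) → y • x = x

theorem forall_fix_of_delta (Fr : Frame P) (hb : Bin H) {x : G ⧸ H} (hx : rel M x (pt M))
    (hsh : Sharp P x) {d : G} (hd : d ∈ dd M Fr.t) (hd1 : d ≠ 1) (hdx : d • x = x) :
    ∀ y ∈ T, y • x = x := by
  by_contra hcon
  push Not at hcon
  obtain ⟨w, hw, hwx⟩ := hcon
  letI : CommGroup P.V := { (inferInstance : Group P.V) with mul_comm := Fr.comm_V }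
  have hdM : d ∈ M := dd_le hd
  have hdT : d ∉ T := fun h => hd1 (P.eq_one_of_fix (fun e => Fr.htM (smul_pt_iff.1 e)) h hd.2)
  set m : M := ⟨d, hdM⟩
  set R := fixR P x
  have hR : ∀ v ∈ R, P.act m v ∈ R := fun v hv => act_mem_fixR hx hdx hv
  have hR' : ∀ v ∈ R, P.act m⁻¹ v ∈ R := fun v hv =>
    act_mem_fixR hx (show d⁻¹ • x = x from inv_smul_eq_iff.2 hdx.symm) hv
  have hwR : P.cl w ∉ R := fun h => hwx ((mem_fixR hx hw).1 h)
  -- the second point
  obtain ⟨v, -, hv⟩ := Fr.exists_solve (m := m) hdT ⊤ (fun _ _ => mem_top _)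
    (w := P.act m (P.cl w)) (mem_top _)
  obtain ⟨y, hy, hyv⟩ := P.exists_cl v
  subst hyv
  have hyR : P.cl y ∉ R := fun h => hwR (by
    have h1 : P.act m (P.cl w) ∈ R := hv ▸ mul_mem h (hR _ h)
    have h2 := hR' _ h1
    rwa [P.act_inv_act] at h2)
  have hyx : y • x ≠ x := fun h => hyR ((mem_fixR hx hy).2 h)
  obtain ⟨g, hg⟩ := hb.realise ![x, y • x, w • x] ![x, y • x, d • w • x] fun i j => by
    have h02 : ∃ g : G, g • x = x ∧ g • w • x = d • w • x := ⟨d, hdx, rfl⟩
    have h12 : ∃ g : G, g • y • x = y • x ∧ g • w • x = d • w • x := by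
      refine ⟨y * (d * d) * y⁻¹, ?_, ?_⟩
      · rw [mul_smul, inv_smul_smul, mul_smul, mul_smul, hdx, hdx]
      · -- the translation part lies in `Z`
        set u := w⁻¹ * (d⁻¹ * y * d) * (d * (y⁻¹ * w) * d⁻¹) with hu
        have h1 : d⁻¹ * y * d ∈ T := P.norm' hdM hy
        have h2 : y⁻¹ * w ∈ T := mul_mem (inv_mem hy) hw
        have huT : u ∈ T := mul_mem (mul_mem (inv_mem hw) h1) (P.norm d hdM _ h2)
        have huZ : u ∈ P.Z := by
          refine (P.cl_eq_one_iff huT).1 ?_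
          have e1 : P.cl (d⁻¹ * y * d) = P.act m⁻¹ (P.cl y) := by
            rw [P.act_cl _ hy]; congr 1; push_cast; simp [m]
          have e2 : P.cl (d * (y⁻¹ * w) * d⁻¹) = P.act m (P.cl y * P.cl w) := by
            rw [← Fr.inv_V (P.cl y), ← P.cl_inv hy, ← P.cl_mul (inv_mem hy) hw, P.act_cl _ h2]
          rw [P.cl_mul (mul_mem (inv_mem hw) h1) (P.norm d hdM _ h2), P.cl_mul (inv_mem hw) h1,
            P.cl_inv hw, Fr.inv_V, e1, e2]
          refine P.act_injective m ?_
          rw [map_mul, map_mul, P.act_act_inv, map_one, ← hv]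
          have e3 : P.act m (P.cl y * P.act m (P.cl y)) = P.act m (P.act m (P.cl w)) := by rw [hv]
          rw [map_mul] at e3
          rw [map_mul, map_mul, ← e3]
          set p0 := P.cl y
          set p1 := P.act m p0
          set p2 := P.act m p1
          rw [mul_comm p0 p1, mul_assoc p1 p0 p0, Fr.mul_self_V, mul_one, mul_left_comm p2 p1 p2,
            Fr.mul_self_V, mul_one, Fr.mul_self_V]
        have h3 : y * (d * d) * y⁻¹ * w = d * w * (u * d) := by rw [hu]; group
        rw [← mul_smul, h3, mul_smul, mul_smul u d, hdx, smul_of_mem_Z hx huZ, mul_smul]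
    fin_cases i <;> fin_cases j <;> simp only [Matrix.cons_val_zero, Matrix.cons_val_one,
      Matrix.cons_val, Fin.zero_eta, Fin.mk_one, Fin.reduceFinMk]
    · exact ⟨1, one_smul _ _, one_smul _ _⟩
    · exact ⟨1, one_smul _ _, one_smul _ _⟩
    · exact h02
    · exact ⟨1, one_smul _ _, one_smul _ _⟩
    · exact ⟨1, one_smul _ _, one_smul _ _⟩
    · exact h12
    · exact h02.imp fun _ h => ⟨h.2, h.1⟩
    · exact h12.imp fun _ h => ⟨h.2, h.1⟩
    · exact ⟨d, rfl, rfl⟩
  have hgx : g • x = x := by simpa using hg 0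
  have hgy : g • y • x = y • x := by simpa using hg 1
  have hgw : g • w • x = d • w • x := by simpa using hg 2
  -- the realising element lies in `M`
  have hgM : g ∈ M := by
    rw [← smul_pt_iff]
    by_contra hp
    have r1 : rel M x (g • pt M) := hgx ▸ rel_smul hx g
    have r2 : rel M (y • x) (g • pt M) := hgy ▸ (by
      have := rel_smul (rel_smul hx y) g
      rwa [P.smul_eq_pt hy] at this)
    have r3 : rel M x (y⁻¹ • g • pt M) := by
      have := rel_smul r2 y⁻¹
      rwa [inv_smul_smul] at this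
    refine hyx (hsh y hy (y⁻¹ • g • pt M) (fun h => hp ?_) r3 (by rwa [smul_inv_smul]))
    rw [inv_smul_eq_iff.1 h, P.smul_eq_pt hy]
  set mg : M := ⟨g, hgM⟩
  have hRg : ∀ v ∈ R, P.act mg⁻¹ v ∈ R := fun v hv =>
    act_mem_fixR hx (show g⁻¹ • x = x from inv_smul_eq_iff.2 hgx.symm) hv
  by_cases hgT : g ∈ T
  · -- a translation
    refine hwR ?_
    have hgR : P.cl g ∈ R := (mem_fixR hx hgT).2 hgx
    have h1 : w⁻¹ * (d⁻¹ * (g * w) * d) ∈ T := mul_mem (inv_mem hw) (P.norm' hdM (mul_mem hgT hw))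
    have h2 : (w⁻¹ * (d⁻¹ * (g * w) * d)) • x = x := by
      rw [mul_smul, mul_smul, mul_smul, hdx, mul_smul, hgw, inv_smul_smul, inv_smul_smul]
    have h3 := (mem_fixR (P := P) hx h1).2 h2
    have e1 : P.cl (d⁻¹ * (g * w) * d) = P.act m⁻¹ (P.cl g * P.cl w) := by
      rw [← P.cl_mul hgT hw, P.act_cl _ (mul_mem hgT hw)]; congr 1; push_cast; simp [m]
    rw [P.cl_mul (inv_mem hw) (P.norm' hdM (mul_mem hgT hw)), P.cl_inv hw, Fr.inv_V, e1, map_mul] at h3
    have h4 : P.cl w * P.act m⁻¹ (P.cl w) ∈ R := by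
      have h5 := mul_mem h3 (hR' _ hgR)
      rw [mul_comm (P.act m⁻¹ (P.cl g)) (P.act m⁻¹ (P.cl w)), ← mul_assoc (P.cl w), mul_assoc,
        Fr.mul_self_V, mul_one] at h5
      exact h5
    have h6 : P.cl w * P.act m (P.cl w) ∈ R := by
      have := hR _ h4
      rw [map_mul, P.act_act_inv, mul_comm] at this
      exact this
    obtain ⟨r, hr, he⟩ := Fr.exists_solve (m := m) hdT R hR h6
    exact Fr.eq_of_solve (m := m) hdT he ▸ hr
  · -- fixed point free on `R`
    refine hyR ?_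
    have hT' : (mg⁻¹ : G) ∉ T := fun h => hgT (by simpa using inv_mem h)
    set c := g⁻¹ * y⁻¹ * g * y with hc
    have hc1 : g⁻¹ * y⁻¹ * g ∈ T := P.norm' hgM (inv_mem hy)
    have hcT : c ∈ T := mul_mem hc1 hy
    have hcx : c • x = x := by
      rw [hc, mul_smul, mul_smul, hgy, mul_smul, inv_smul_smul, inv_smul_eq_iff.2 hgx.symm]
    have h1 := (mem_fixR (P := P) hx hcT).2 hcx
    have e1 : P.cl (g⁻¹ * y⁻¹ * g) = P.act mg⁻¹ (P.cl y) := by
      rw [← Fr.inv_V (P.cl y), ← P.cl_inv hy, P.act_cl _ (inv_mem hy)]; congr 1; push_cast; simp [mg]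
    rw [hc, P.cl_mul hc1 hy, e1, mul_comm] at h1
    obtain ⟨r, hr, he⟩ := Fr.exists_solve (m := mg⁻¹) hT' R hRg h1
    exact Fr.eq_of_solve (m := mg⁻¹) hT' he ▸ hr

end CfsgLib.BinaryCoset
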