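import Cfsg.Agent.Binary.Frame

/-!
# The quotient of the 2-subgroup by its involutions, and the points over a point
-/

set_option autoImplicit false
set_option linter.unusedSectionVars false
set_option linter.style.haveILetI false

namespace CfsgLib.BinaryCoset

open MulAction Subgroup

universe u

variable {G : Type u} [Group G] [Finite G] [IsSimpleGroup G] {M T : Subgroup G}

namespace Pair

theorem four_le (P : Pair M T) : 4 ≤ Nat.card P.Z := by
  obtain ⟨g, hg⟩ := Bender.Consumers.exists_not_mem P.se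
  obtain ⟨a, haM, ha⟩ := StrongEmbed.exists_invol P.se
  have h1 : g * a * g⁻¹ ∉ M := fun h => hg (by
    have := StrongEmbed.mem_of_conj_mem P.se haM ha (g := g⁻¹) (by rwa [inv_inv])
    simpa using this)
  obtain ⟨S, hS, -⟩ := P.exists_data (t := g * a * g⁻¹) (by rw [Invol.orderOf_conj_eq, ha]) h1
  exact hS ▸ S.four_le

theorem exists_decomp (P : Pair M T) {t : G} (htM : t ∉ M) {m : G} (hm : m ∈ M) :
    ∃ z ∈ T, ∃ e ∈ dd M t, m = z * e := by
  have h1 : t • pt M ≠ pt M := fun h => htM (smul_pt_iff.1 h)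
  have h2 : m • t • pt M ≠ pt M := fun h => h1 (MulAction.injective m (h.trans (smul_pt_iff.2 hm).symm))
  obtain ⟨z, hz, hzt⟩ := P.exists_smul h1 h2
  refine ⟨z, hz, z⁻¹ * m, ⟨?_, ?_⟩, (mul_inv_cancel_left z m).symm⟩
  · exact smul_pt_iff.2 (mul_mem (inv_mem (P.le hz)) hm)
  · show (z⁻¹ * m) • t • pt M = t • pt M
    rw [mul_smul, inv_smul_eq_iff, hzt]

/-- The elements of order at most two, inside `T`. -/
def Zt (P : Pair M T) : Subgroup T := P.Z.subgroupOf T

instance Zt_normal (P : Pair M T) : P.Zt.Normal := ⟨fun z hz x => P.Z_norm (P.le x.2) hz⟩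

/-- The quotient of `T` by its elements of order at most two. -/
abbrev V (P : Pair M T) : Type _ := T ⧸ P.Zt

open Classical in
/-- The class of an element of `T`. -/
noncomputable def cl (P : Pair M T) (x : G) : P.V :=
  if h : x ∈ T then QuotientGroup.mk ⟨x, h⟩ else 1

theorem cl_mk (P : Pair M T) {x : G} (hx : x ∈ T) : P.cl x = QuotientGroup.mk ⟨x, hx⟩ := dif_pos hx

theorem cl_mul (P : Pair M T) {x y : G} (hx : x ∈ T) (hy : y ∈ T) :
    P.cl (x * y) = P.cl x * P.cl y := by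
  rw [P.cl_mk hx, P.cl_mk hy, P.cl_mk (mul_mem hx hy)]; rfl

theorem cl_inv (P : Pair M T) {x : G} (hx : x ∈ T) : P.cl x⁻¹ = (P.cl x)⁻¹ := by
  rw [P.cl_mk hx, P.cl_mk (inv_mem hx)]; rfl

theorem cl_eq_one_iff (P : Pair M T) {x : G} (hx : x ∈ T) : P.cl x = 1 ↔ x ∈ P.Z := by
  rw [P.cl_mk hx, QuotientGroup.eq_one_iff]; rfl

theorem exists_cl (P : Pair M T) (v : P.V) : ∃ x ∈ T, P.cl x = v := by
  obtain ⟨⟨x, hx⟩, rfl⟩ := QuotientGroup.mk_surjective v
  exact ⟨x, hx, P.cl_mk hx⟩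

/-- Conjugation on `T`. -/
def conjT (P : Pair M T) (m : M) : T →* T where
  toFun x := ⟨(m : G) * x * (m : G)⁻¹, P.norm m m.2 x x.2⟩
  map_one' := Subtype.ext (by simp)
  map_mul' x y := Subtype.ext (by simp [mul_assoc])

/-- Conjugation on the quotient. -/
def act (P : Pair M T) (m : M) : P.V →* P.V :=
  QuotientGroup.map P.Zt P.Zt (P.conjT m) fun _ hz => P.Z_norm m.2 hz

theorem act_cl (P : Pair M T) (m : M) {x : G} (hx : x ∈ T) :
    P.act m (P.cl x) = P.cl ((m : G) * x * (m : G)⁻¹) := by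
  rw [P.cl_mk hx, P.cl_mk (P.norm m m.2 x hx)]; rfl

theorem act_mul (P : Pair M T) (m n : M) (v : P.V) : P.act (m * n) v = P.act m (P.act n v) := by
  obtain ⟨x, hx, rfl⟩ := P.exists_cl v
  rw [P.act_cl _ hx, P.act_cl _ hx, P.act_cl _ (P.norm n n.2 x hx)]
  congr 1
  push_cast
  group

theorem act_one (P : Pair M T) (v : P.V) : P.act 1 v = v := by
  obtain ⟨x, hx, rfl⟩ := P.exists_cl v
  rw [P.act_cl _ hx]; simp

theorem act_inv_act (P : Pair M T) (m : M) (v : P.V) : P.act m⁻¹ (P.act m v) = v := by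
  rw [← P.act_mul, inv_mul_cancel, P.act_one]

theorem act_act_inv (P : Pair M T) (m : M) (v : P.V) : P.act m (P.act m⁻¹ v) = v := by
  rw [← P.act_mul, mul_inv_cancel, P.act_one]

theorem act_injective (P : Pair M T) (m : M) : Function.Injective (P.act m) :=
  Function.LeftInverse.injective (g := P.act m⁻¹) (P.act_inv_act m)

end Pair

namespace Frame

variable {P : Pair M T} (Fr : Frame P)

include Fr

theorem mul_self_V (v : P.V) : v * v = 1 := by
  obtain ⟨x, hx, rfl⟩ := P.exists_cl v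
  rw [← P.cl_mul hx hx, P.cl_eq_one_iff (mul_mem hx hx)]
  exact Fr.sq x hx

theorem inv_V (v : P.V) : v⁻¹ = v := inv_eq_of_mul_eq_one_right (Fr.mul_self_V v)

theorem comm_V (v w : P.V) : v * w = w * v :=
  calc v * w = (v * w)⁻¹ := (Fr.inv_V _).symm
    _ = w⁻¹ * v⁻¹ := mul_inv_rev v w
    _ = w * v := by rw [Fr.inv_V, Fr.inv_V]

theorem act_of_mem {m : M} (hm : (m : G) ∈ T) (v : P.V) : P.act m v = v := by
  obtain ⟨x, hx, rfl⟩ := P.exists_cl v
  rw [P.act_cl _ hx, P.cl_mul (mul_mem hm hx) (inv_mem hm), P.cl_mul hm hx, P.cl_inv hm,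
    Fr.comm_V (P.cl (m : G)), mul_inv_cancel_right]

theorem dd_mem {d : G} (hd : d ∈ dd M Fr.t) : d ∈ M := dd_le hd

theorem fpf_dd {d : G} (hd : d ∈ dd M Fr.t) (hd1 : d ≠ 1) {v : P.V}
    (h : P.act ⟨d, dd_le hd⟩ v = v) : v = 1 := by
  obtain ⟨x, hx, rfl⟩ := P.exists_cl v
  have hdx : d * x * d⁻¹ ∈ T := P.norm d (dd_le hd) x hx
  rw [P.cl_eq_one_iff hx]
  refine Fr.fpf d hd hd1 x hx ((P.cl_eq_one_iff (mul_mem (inv_mem hx) hdx)).1 ?_)
  rw [P.act_cl _ hx] at h
  rw [P.cl_mul (inv_mem hx) hdx, P.cl_inv hx, h, inv_mul_cancel]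

/-- Outside `T` the action on the quotient is fixed point free. -/
theorem fpf_M {m : M} (hm : (m : G) ∉ T) {v : P.V} (h : P.act m v = v) : v = 1 := by
  obtain ⟨z, hz, e, he, hme⟩ := P.exists_decomp Fr.htM m.2
  have he1 : e ≠ 1 := fun h1 => hm (by rw [hme, h1, mul_one]; exact hz)
  refine Fr.fpf_dd he he1 ?_
  rwa [show m = (⟨z, P.le hz⟩ : M) * ⟨e, dd_le he⟩ from Subtype.ext hme, P.act_mul,
    Fr.act_of_mem (m := ⟨z, P.le hz⟩) hz] at h

theorem four_le_q : 4 ≤ Fr.q := Fr.hq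

theorem eq_of_solve {m : M} (hm : (m : G) ∉ T) {v v' : P.V}
    (h : v * P.act m v = v' * P.act m v') : v = v' := by
  letI : CommGroup P.V := { (inferInstance : Group P.V) with mul_comm := Fr.comm_V }
  refine inv_mul_eq_one.1 (Fr.fpf_M hm ?_)
  rw [map_mul, map_inv, Fr.inv_V, Fr.inv_V]
  calc P.act m v * P.act m v' = v' * P.act m v' * (v' * P.act m v) := by
        rw [mul_mul_mul_comm, Fr.mul_self_V, one_mul, mul_comm]
    _ = v * P.act m v * (v' * P.act m v) := by rw [h]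
    _ = v * v' := by rw [mul_mul_mul_comm, Fr.mul_self_V, mul_one]

/-- `v ↦ v · m v` is a bijection on every invariant subgroup. -/
theorem exists_solve {m : M} (hm : (m : G) ∉ T) (C : Subgroup P.V) (hC : ∀ v ∈ C, P.act m v ∈ C)
    {w : P.V} (hw : w ∈ C) : ∃ v ∈ C, v * P.act m v = w := by
  let f : C → C := fun v => ⟨(v : P.V) * P.act m v, mul_mem v.2 (hC v v.2)⟩
  have hf : Function.Injective f := fun a b h =>
    Subtype.ext (Fr.eq_of_solve hm (congrArg Subtype.val h))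
  obtain ⟨v, hv⟩ := (Finite.injective_iff_surjective.1 hf) ⟨w, hw⟩
  exact ⟨v, v.2, congrArg Subtype.val hv⟩

end Frame

/-- All involutions fixing `p` fix `x`. -/
def rel {H : Subgroup G} (M : Subgroup G) (x : G ⧸ H) (p : G ⧸ M) : Prop :=
  ∀ u : G, orderOf u = 2 → u • p = p → u • x = x

section Rel

variable {H : Subgroup G} {x : G ⧸ H}

theorem rel_smul {p : G ⧸ M} (h : rel M x p) (g : G) : rel M (g • x) (g • p) := by
  intro u hu hup
  have := h (g⁻¹ * u * g⁻¹⁻¹) (by rw [Invol.orderOf_conj_eq, hu])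
    (by rw [inv_inv, mul_smul, mul_smul, hup, inv_smul_smul])
  rwa [inv_inv, mul_smul, mul_smul, inv_smul_eq_iff] at this

theorem rel_of_exists (P : Pair M T) (hy : Hyp H) {p : G ⧸ M} {u : G} (hu : orderOf u = 2)
    (hup : u • p = p) (hux : u • x = x) : rel M x p := fun _ hv hvp =>
  fix_of_commute hy.ne_top hy.one hy.bin hu hv (P.commute_of_fix hu hv hup hvp) hux

theorem rel_base (hsub : ∀ s ∈ M, orderOf s = 2 → s ∈ H) : rel M (base H) (pt M) :=
  fun u hu hup => smul_base_iff.2 (hsub u (smul_pt_iff.1 hup) hu)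

theorem smul_of_mem_Z {P : Pair M T} (h : rel M x (pt M)) {z : G} (hz : z ∈ P.Z) : z • x = x := by
  by_cases hz1 : z = 1
  · rw [hz1, one_smul]
  · exact h z (Invol.orderOf_eq_two hz.2 hz1) (P.smul_eq_pt hz.1)

/-- The classes of the elements of `T` fixing `x`. -/
def fixR (P : Pair M T) (x : G ⧸ H) : Subgroup P.V :=
  ((stabilizer G x).subgroupOf T).map (QuotientGroup.mk' P.Zt)

theorem mem_fixR {P : Pair M T} (h : rel M x (pt M)) {y : G} (hy : y ∈ T) :
    P.cl y ∈ fixR P x ↔ y • x = x := by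
  rw [P.cl_mk hy]
  constructor
  · rintro ⟨⟨s, hs⟩, hsx, hse⟩
    rw [QuotientGroup.mk'_apply] at hse
    have hz : s⁻¹ * y ∈ P.Z := mem_subgroupOf.1 (QuotientGroup.eq.1 hse)
    have hsx' : s • x = x := hsx
    rw [show y = s * (s⁻¹ * y) by group, mul_smul, smul_of_mem_Z h hz, hsx']
  · exact fun hyx => ⟨⟨y, hy⟩, hyx, rfl⟩

theorem act_mem_fixR {P : Pair M T} (h : rel M x (pt M)) {m : M} (hm : (m : G) • x = x) {v : P.V}
    (hv : v ∈ fixR P x) : P.act m v ∈ fixR P x := by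
  obtain ⟨y, hy, rfl⟩ := P.exists_cl v
  rw [mem_fixR h hy] at hv
  rw [P.act_cl _ hy, mem_fixR h (P.norm m m.2 y hy), mul_smul, mul_smul, inv_smul_eq_iff.2 hm.symm,
    hv, hm]

end Rel

end CfsgLib.BinaryCoset
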