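import Cfsg.Agent.Binary.Lines

/-!
# Binary coset actions of simple groups with one class of involutions
-/

set_option autoImplicit false
set_option linter.unusedSectionVars false
set_option linter.style.haveILetI false

namespace CfsgLib.BinaryCoset

open MulAction Subgroup

universe u

variable {G : Type u} [Group G] [Finite G] [IsSimpleGroup G] {M T H : Subgroup G} {P : Pair M T}

theorem Sharp.smul {x : G ⧸ H} (h : Sharp P x) {y : G} (hy : y ∈ T) : Sharp P (y • x) := by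
  intro w hw p hp hrp hrq
  have e : ∀ {q : G ⧸ M}, rel M (y • x) q → rel M x (y⁻¹ • q) := fun {q} hq => by
    have := rel_smul hq y⁻¹
    rwa [inv_smul_smul] at this
  have h1 := h (y⁻¹ * w * y) (mul_mem (mul_mem (inv_mem hy) hw) hy) (y⁻¹ • p)
    (fun e' => hp (by rw [inv_smul_eq_iff.1 e', P.smul_eq_pt hy])) (e hrp) (by
      rw [mul_smul, mul_smul, smul_inv_smul]; exact e hrq)
  rw [mul_smul, mul_smul, inv_smul_eq_iff] at h1
  exact h1

/-- An element of `H ⊓ M` outside `T` puts `T` into `H`. -/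
theorem T_fix_of_mem (Fr : Frame P) (hb : Bin H) (hrel : rel M (base H) (pt M))
    (hsh : Sharp P (base H)) {h : G} (hh : h ∈ H) (hhM : h ∈ M) (hhT : h ∉ T) :
    ∀ y ∈ T, y • base H = base H := by
  obtain ⟨z, hz, e, he, rfl⟩ := P.exists_decomp Fr.htM hhM
  have he1 : e ≠ 1 := fun e1 => hhT (by rw [e1, mul_one]; exact hz)
  have heT : e ∉ T := fun h' => he1 (P.eq_one_of_fix (fun e => Fr.htM (smul_pt_iff.1 e)) h' he.2)
  obtain ⟨v, -, hv⟩ := Fr.exists_solve (m := ⟨e, dd_le he⟩) heT ⊤ (fun _ _ => mem_top _)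
    (w := P.cl z) (mem_top _)
  obtain ⟨y, hy, rfl⟩ := P.exists_cl v
  have hey : e * y * e⁻¹ ∈ T := P.norm e (dd_le he) y hy
  have hzT : y⁻¹ * z * (e * y * e⁻¹) ∈ T := mul_mem (mul_mem (inv_mem hy) hz) hey
  have hzZ : y⁻¹ * z * (e * y * e⁻¹) ∈ P.Z := (P.cl_eq_one_iff hzT).1 (by
    rw [P.cl_mul (mul_mem (inv_mem hy) hz) hey, P.cl_mul (inv_mem hy) hz, P.cl_inv hy, Fr.inv_V,
      ← hv, P.act_cl _ hy, ← mul_assoc, Fr.mul_self_V, one_mul]
    exact Fr.mul_self_V _)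
  have hrel' : rel M (y⁻¹ • base H) (pt M) := by
    have := rel_smul hrel y⁻¹
    rwa [P.smul_eq_pt (inv_mem hy)] at this
  have hfix : e • y⁻¹ • base H = y⁻¹ • base H := by
    refine MulAction.injective (y⁻¹ * z * (e * y * e⁻¹)) ?_
    show (y⁻¹ * z * (e * y * e⁻¹)) • e • y⁻¹ • base H = (y⁻¹ * z * (e * y * e⁻¹)) • y⁻¹ • base H
    rw [smul_of_mem_Z hrel' hzZ, ← mul_smul, ← mul_smul,
      show y⁻¹ * z * (e * y * e⁻¹) * e * y⁻¹ = y⁻¹ * (z * e) by group, mul_smul,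
      smul_base_iff.2 hh]
  have hall := forall_fix_of_delta Fr hb hrel' (hsh.smul (inv_mem hy)) he he1 hfix
  intro w hw
  have h1 := hall (y⁻¹ * w * y) (mul_mem (mul_mem (inv_mem hy) hw) hy)
  rw [mul_smul, mul_smul, smul_inv_smul, inv_smul_eq_iff, smul_inv_smul] at h1
  exact h1

theorem Z_le_H (hsub : ∀ s ∈ M, orderOf s = 2 → s ∈ H) : P.Z ≤ H :=
  fun _ hz => smul_base_iff.1 (smul_of_mem_Z (rel_base hsub) hz)

/-- The stabiliser consists of the involutions of `T`, in the non-abelian case. -/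
theorem eq_Z_of_frame (hB : Bender.Consumers.Structure.{u}) (Fr : Frame P) (hy : Hyp H)
    (hsub : ∀ s ∈ M, orderOf s = 2 → s ∈ H) : H = P.Z := by
  have hrel : rel M (base H) (pt M) := rel_base hsub
  have hle : H ≤ M := by
    by_contra hnle
    obtain ⟨h, hh, hhM, hhT⟩ : ∃ h ∈ H, h ∈ M ∧ h ∉ T := by
      by_contra hcon
      push Not at hcon
      exact hnle (le_of_inter_le P hsub hcon)
    exact hnle (le_of_T_fix P hy hsub
      (T_fix_of_mem Fr hy.bin hrel (sharp_base hB P hsub) hh hhM hhT))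
  have hsh : Sharp P (base H) := by
    intro y _ p hp hrp _
    obtain ⟨h, hh, rfl⟩ := exists_smul_of_rel P hsub hrp
    exact absurd (smul_pt_iff.2 (hle hh)) hp
  have hT : H ≤ T := fun h hh => by
    by_contra hhT
    exact false_of_T_fix Fr hy.bin hle (T_fix_of_mem Fr hy.bin hrel hsh hh (hle hh) hhT)
  exact le_antisymm (le_Z_of_le_T Fr hy.bin hrel hT) (Z_le_H hsub)

/-- The stabiliser is `T`, in the abelian case. -/
theorem eq_T_of_abelian (P : Pair M T) (hy : Hyp H) (hsub : ∀ s ∈ M, orderOf s = 2 → s ∈ H)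
    (hT : T ≤ P.Z)
    (h3 : ∀ t : G, orderOf t = 2 → t ∉ M → ∀ d ∈ dd M t, t * d * t = d⁻¹ ∧
      ∀ p : G ⧸ M, d • p = p → p ≠ pt M → p ≠ t • pt M → d = 1) : H = T := by
  classical
  have hTH : T ≤ H := hT.trans (Z_le_H hsub)
  have hle : H ≤ M := le_of_T_fix P hy hsub fun y hyT => smul_base_iff.2 (hTH hyT)
  refine le_antisymm (fun h hh => ?_) hTH
  obtain ⟨g, hg⟩ := Bender.Consumers.exists_not_mem P.se
  obtain ⟨t, ht, htg⟩ := StrongEmbed.exists_swap P.se (x := pt M) (y := g • pt M)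
    fun e => hg (smul_pt_iff.1 e.symm)
  have htM : t ∉ M := fun e => hg (smul_pt_iff.1 (by rw [← htg, smul_pt_iff.2 e]))
  obtain ⟨z, hz, e, he, rfl⟩ := P.exists_decomp htM (hle hh)
  have heH : e ∈ H := by simpa using mul_mem (inv_mem (hTH hz)) hh
  suffices he1 : e = 1 by rw [he1, mul_one]; exact hz
  obtain ⟨hte, hfree⟩ := h3 t ht htM e he
  have htt := Invol.mul_self_eq_one ht
  -- the fixed point of an involution
  have hpt : ∀ u : G, orderOf u = 2 → ∃ (x : G ⧸ H) (p : G ⧸ M), u • x = x ∧ u • p = p ∧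
      ∀ k : G, k • x = x → k • p = p := by
    intro u hu
    obtain ⟨a, haM, ha⟩ := StrongEmbed.exists_invol P.se
    obtain ⟨c, hc⟩ := isConj_iff.1 (hy.one a u ha hu)
    refine ⟨c • base H, c • pt M, ?_, ?_, fun k hk => ?_⟩
    · rw [← hc, mul_smul, mul_smul, inv_smul_smul, smul_base_iff.2 (hsub a haM ha)]
    · rw [← hc, mul_smul, mul_smul, inv_smul_smul, smul_pt_iff.2 haM]
    · have h1 : (c⁻¹ * k * c) ∈ H := smul_base_iff.1 (by rw [mul_smul, mul_smul, hk, inv_smul_smul])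
      have h2 := smul_pt_iff.2 (hle h1)
      rwa [mul_smul, mul_smul, inv_smul_eq_iff] at h2
  have htp : t • pt M ≠ pt M := fun e => htM (smul_pt_iff.1 e)
  obtain ⟨g, hgt, hge, hgte⟩ := hy.bin.common t e
  have htinv : t⁻¹ = t := Invol.inv_eq_self ht
  have hg0 : g • base H = base H := hge _ (smul_base_iff.2 heH)
  have hg1 : g • t • base H = t • base H := hge _ (by
    rw [← mul_smul, show e * t = t * (t * e * t) by rw [← mul_assoc, ← mul_assoc, htt, one_mul], hte,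
      mul_smul, inv_smul_eq_iff.2 (smul_base_iff.2 heH).symm])
  have hgD : g ∈ dd M t := by
    refine ⟨smul_pt_iff.2 (hle (smul_base_iff.1 hg0)), ?_⟩
    have h1 : t⁻¹ * g * t ∈ H := smul_base_iff.1 (by rw [mul_smul, mul_smul, hg1, inv_smul_smul])
    have h2 := smul_pt_iff.2 (hle h1)
    rw [mul_smul, mul_smul, inv_smul_eq_iff] at h2
    exact h2
  obtain ⟨x, p, htx, htp', hx⟩ := hpt t ht
  have hg1' : g = 1 := (h3 t ht htM g hgD).2 p (hx g (hgt x htx)) (fun e => htp (e ▸ htp'))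
    fun e' => htp (by
      rw [e', ← mul_smul, htt, one_smul] at htp'
      exact htp'.symm)
  have hte2 : orderOf (t * e) = 2 := by
    refine Invol.orderOf_eq_two ?_ fun h' => htM ?_
    · rw [show t * e * (t * e) = (t * e * t) * e by group, hte, inv_mul_cancel]
    · rw [eq_inv_of_mul_eq_one_left h']
      exact inv_mem (dd_le he)
  obtain ⟨y, q, hyx, hyq, hy'⟩ := hpt (t * e) hte2
  have heq : e • q = q := hy' e (by rw [← hgte y hyx, hg1', one_smul])
  have htq : t • q = q := by rwa [mul_smul, heq] at hyq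
  refine hfree q heq (fun e' => htp (e' ▸ htq)) fun e' => htp ?_
  rw [e', ← mul_smul, htt, one_smul] at htq
  exact htq.symm

/-- The forward direction. -/
theorem forward (hB : Bender.Consumers.Structure.{u}) {H : Subgroup G} (hy : Hyp H) :
    ((∃ (F : Type) (_ : Field F) (_ : Fintype F) (a : ℕ), 2 ≤ a ∧ Fintype.card F = 2 ^ a ∧
        Nonempty (G ≃* Matrix.SpecialLinearGroup (Fin 2) F)) ∧ ∃ S : Sylow 2 G, H = S) ∨
    (Cfsg.Lie.IsoSuzuki G ∧
      ∃ S : Sylow 2 G, H = (Subgroup.center (S : Subgroup G)).map (S : Subgroup G).subtype) ∨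
    ((∃ (F : Type) (_ : Field F) (_ : Fintype F) (a : ℕ), 2 ≤ a ∧ Fintype.card F = (2 ^ a) ^ 2 ∧
        Nonempty (G ≃* Cfsg.PSU 3 F (2 ^ a))) ∧
      ∃ S : Sylow 2 G, H = (Subgroup.center (S : Subgroup G)).map (S : Subgroup G).subtype) := by
  obtain ⟨M, hse, hsub⟩ := hy.exists_se
  obtain ⟨T, P⟩ := exists_pair hB hse
  obtain ⟨S, hS⟩ := P.exists_sylow
  have hcen : ∀ Fr : Frame P, H = (Subgroup.center (S : Subgroup G)).map (S : Subgroup G).subtype := by
    intro Fr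
    rw [eq_Z_of_frame hB Fr hy hsub]
    ext x
    rw [P.mem_Z]
    constructor
    · rintro ⟨hx, hx2⟩
      refine ⟨⟨x, hS ▸ hx⟩, Subgroup.mem_center_iff.2 fun w => Subtype.ext ?_, rfl⟩
      exact (P.central x hx hx2 w (hS ▸ w.2)).symm
    · rintro ⟨⟨w, hw⟩, hwc, rfl⟩
      refine P.mem_Z.1 (center_le_Z Fr (hS ▸ hw) fun y hy' => ?_)
      exact (congrArg Subtype.val (Subgroup.mem_center_iff.1 hwc ⟨y, hS ▸ hy'⟩)).symm
  rcases cases P with hT | ⟨hSz, ⟨Fr⟩⟩ | ⟨hU, ⟨Fr⟩⟩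
  · obtain ⟨hF, h3⟩ := elementary_case P hT
    exact Or.inl ⟨hF, S, (eq_T_of_abelian P hy hsub hT h3).trans hS.symm⟩
  · exact Or.inr (Or.inl ⟨hSz, S, hcen Fr⟩)
  · exact Or.inr (Or.inr ⟨hU, S, hcen Fr⟩)

end CfsgLib.BinaryCoset
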