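import Cfsg.Agent.Binary.FrameDefs
import Cfsg.Agent.Recog.RankOneSuzuki.Model

/-!
# The two-point stabiliser of `PSU₃(q)`
-/

set_option autoImplicit false
set_option linter.unusedSectionVars false
set_option linter.style.haveILetI false

namespace CfsgLib.BinaryCoset

open MulAction Subgroup CfsgLib.Forms CfsgLib.Unitary CfsgLib.SU3Pres
open CfsgLib.Recog.RankOneSuzuki

universe u

variable {G : Type u} [Group G] [Finite G] [IsSimpleGroup G] {M T : Subgroup G}

/-- A surjection from `SU₃(q)` with central kernel sending the unipotent group onto `T`. -/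
theorem exists_cover (P : Pair M T) {F : Type} [Field F] [Fintype F] {n : ℕ} (hn : 1 ≤ n)
    (hF : Nat.card F = (2 ^ n) ^ 2) (e : G ≃* Cfsg.PSU 3 F (2 ^ n)) :
    ∃ φ : HU F (2 ^ n) →* G, Function.Surjective φ ∧
      (∀ g, φ g = 1 ↔ g ∈ Subgroup.center (HU F (2 ^ n))) ∧ (Model.unip hF).map φ = T := by
  classical
  haveI : Fact (Nat.Prime 2) := ⟨Nat.prime_two⟩
  obtain ⟨e₀⟩ := nonempty_equiv hF
  let π : HU F (2 ^ n) →* Cfsg.PSU 3 F (2 ^ n) :=
    (QuotientGroup.mk' (Subgroup.center (Cfsg.SU 3 F (2 ^ n)))).comp e₀.toMonoidHom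
  have hπs : Function.Surjective π := (QuotientGroup.mk'_surjective _).comp e₀.surjective
  have hker : ∀ g, π g = 1 ↔ g ∈ Subgroup.center (HU F (2 ^ n)) := by
    intro g
    show QuotientGroup.mk' (Subgroup.center (Cfsg.SU 3 F (2 ^ n))) (e₀ g) = 1 ↔ _
    rw [← MonoidHom.mem_ker, QuotientGroup.ker_mk', Subgroup.mem_center_iff, Subgroup.mem_center_iff]
    refine ⟨fun h y => e₀.injective (by rw [map_mul, map_mul, h]), fun h y => ?_⟩
    obtain ⟨y, rfl⟩ := e₀.surjective y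
    rw [← map_mul, ← map_mul, h]
  let φ₀ : HU F (2 ^ n) →* G := e.symm.toMonoidHom.comp π
  have hφs : Function.Surjective φ₀ := e.symm.surjective.comp hπs
  set Q₀ := (Model.unip hF).map φ₀
  have hU : IsPGroup 2 (Model.unip hF) := IsPGroup.of_card (n := n * 3) (by
    rw [Model.card_unip hF, pow_mul])
  have hQ2 : IsPGroup 2 Q₀ := hU.map φ₀
  have hidx : ¬ 2 ∣ Q₀.index := by
    intro h2
    have h3 : Q₀.index ∣ (Model.unip hF).index := Subgroup.index_map_dvd _ hφs
    have h4 : (Model.unip hF).index = ((2 ^ n) ^ 2 - 1) * ((2 ^ n) ^ 3 + 1) := by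
      refine Nat.eq_of_mul_eq_mul_left (show 0 < Nat.card (Model.unip hF) from Nat.card_pos) ?_
      rw [Subgroup.card_mul_index, card_HU hF, Model.card_unip hF]
    have he : Even ((2 ^ n) ^ 2) ∧ Even ((2 ^ n) ^ 3) :=
      ⟨(even_two.pow_of_ne_zero (by omega)).pow_of_ne_zero two_ne_zero,
        (even_two.pow_of_ne_zero (by omega)).pow_of_ne_zero three_ne_zero⟩
    have hodd : Odd (((2 ^ n) ^ 2 - 1) * ((2 ^ n) ^ 3 + 1)) :=
      (Nat.Even.sub_odd (Nat.one_le_pow _ _ (Nat.two_pow_pos n)) he.1 odd_one).mul he.2.add_one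
    exact Nat.not_even_iff_odd.2 (hodd.of_dvd_nat (h4 ▸ h3)) (even_iff_two_dvd.2 h2)
  obtain ⟨S, hS⟩ := P.exists_sylow
  obtain ⟨g, hg⟩ := MulAction.exists_smul_eq G (hQ2.toSylow hidx) S
  refine ⟨(MulAut.conj g).toMonoidHom.comp φ₀, (MulAut.conj g).surjective.comp hφs, fun x => ?_, ?_⟩
  · show MulAut.conj g (e.symm (π x)) = 1 ↔ _
    rw [EmbeddingLike.map_eq_one_iff, EmbeddingLike.map_eq_one_iff, hker]
  · rw [← Subgroup.map_map, ← hS, ← hg]
    rfl

theorem lam_eq_one_iff {F : Type} [Field F] [Finite F] {q : ℕ} (hF : Nat.card F = q ^ 2) {k : F}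
    (hk : k ≠ 0) (h : lam q k = 1) : k ^ q / k = k ∧ (k ^ q)⁻¹ = k ∧ k ^ 3 = 1 := by
  have hkq : k ^ q ≠ 0 := pow_ne_zero q hk
  have h1 : k * k = k ^ q := by rwa [lam, div_eq_one_iff_eq hkq] at h
  have h3 : k ^ 3 = 1 := by
    have h2 : k = k ^ 4 := by
      conv_lhs => rw [← pow_q_q hF k, ← h1, mul_pow, ← h1]
      ring
    have : k * k ^ 3 = k * 1 := by rw [mul_one]; linear_combination -h2
    exact mul_left_cancel₀ hk this
  refine ⟨by rw [← h1, mul_div_assoc, div_self hk, mul_one], ?_, h3⟩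
  rw [← h1]
  refine inv_eq_of_mul_eq_one_right ?_
  linear_combination h3

/-- The two-point stabiliser, from a cover by `SU₃(q)`. -/
theorem frame_of_cover (P : Pair M T) {F : Type} [Field F] [Fintype F] [CharP F 2] {q : ℕ}
    (hq : 4 ≤ q) (hq8 : q = 4 ∨ 8 ≤ q) (hF : Nat.card F = q ^ 2) (φ : HU F q →* G)
    (hφs : Function.Surjective φ) (hker : ∀ g, φ g = 1 ↔ g ∈ Subgroup.center (HU F q))
    (hU : (Model.unip hF).map φ = T) : Nonempty (Frame P) := by
  classical
  -- `φ` is injective on the unipotent group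
  have hUinj : ∀ z : UP F q, φ (uP hF z) = 1 → z.1.1 = 0 ∧ z.1.2 = 0 := by
    intro z h
    obtain ⟨k, hk⟩ := Model.center_mem hF ((hker _).1 h)
    have h2 : uP hF z * tel hF 1 = uP hF ⟨(0, 0), vld_zero hF⟩ * tel hF k := by
      rw [map_one, mul_one, hk]
      show _ = uel hF 0 0 _ * _
      rw [uel_zero, one_mul]
    rw [(borel_inj hF h2).1]
    exact ⟨rfl, rfl⟩
  have hmemT : ∀ x : G, x ∈ T ↔ ∃ z : UP F q, φ (uP hF z) = x := by
    intro x
    rw [← hU]
    constructor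
    · rintro ⟨_, ⟨z, rfl⟩, rfl⟩; exact ⟨z, rfl⟩
    · rintro ⟨z, rfl⟩; exact ⟨_, Model.uP_mem hF z, rfl⟩
  -- the subgroup of exponent two
  have hZ : ∀ (a b : F) (h : Vld q a b), φ (uel hF a b h) ∈ P.Z ↔ a = 0 := by
    intro a b h
    have hT : φ (uel hF a b h) ∈ T := (hmemT _).2 ⟨⟨(a, b), h⟩, rfl⟩
    rw [P.mem_Z, and_iff_right hT, ← map_mul, uel_mul hF h h]
    constructor
    · intro h1
      have h3 := (hUinj ⟨(_, _), vld_mul hF h h⟩ h1).2
      have h3' : b + b - a * a ^ q = 0 := h3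
      rw [CharTwo.add_self_eq_zero, zero_sub, neg_eq_zero] at h3'
      exact (mul_eq_zero.1 h3').elim id fun h => eq_zero_of_pow_eq_zero h
    · intro ha
      rw [uel_congr hF _ (vld_zero hF) (by rw [ha, add_zero])
        (by rw [CharTwo.add_self_eq_zero, ha, zero_mul, sub_zero]), uel_zero, map_one]
  have hinv : ∀ (a b : F) (h : Vld q a b), ∃ b' h', (φ (uel hF a b h))⁻¹ = φ (uel hF a b' h') := by
    intro a b h
    refine ⟨b + a * a ^ q, ?_, ?_⟩
    · show _ + (b + a * a ^ q) ^ q + _ = 0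
      rw [add_pow_q hF, mul_pow, pow_q_q hF]
      have h0 : b + b ^ q + a * a ^ q = 0 := h
      linear_combination h0 + CharTwo.add_self_eq_zero (a * a ^ q)
    · rw [← map_inv]
      refine congrArg φ (inv_eq_of_mul_eq_one_right ?_)
      rw [uel_mul, ← uel_zero hF]
      exact uel_congr hF _ _ (CharTwo.add_self_eq_zero a)
        (by linear_combination CharTwo.add_self_eq_zero b)
  -- the Borel subgroup
  have hBM : ∀ x ∈ Model.borel hF, φ x ∈ M := by
    refine fun x hx => P.mem_of_normalises fun y hy => ?_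
    rw [← hU] at hy ⊢
    obtain ⟨v, hv, rfl⟩ := hy
    refine ⟨x⁻¹ * v * x, ?_, by rw [map_mul, map_mul, map_inv]⟩
    have := Model.borel_conj hF (inv_mem hx) hv
    rwa [inv_inv] at this
  have hcen : ∀ {x y : HU F q}, φ x = φ y → y ∈ Model.borel hF → x ∈ Model.borel hF := by
    intro x y h hy
    have : y⁻¹ * x ∈ Model.borel hF := Model.center_le hF ((hker _).1 (by
      rw [map_mul, map_inv, h, inv_mul_cancel]))
    simpa using mul_mem hy this
  have hwM : φ (wel hF) ∉ M := by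
    intro h
    have hall : ∀ u ∈ Model.unip hF, u = 1 := fun u hu => Model.unip_wel hF hu (by
      have h1 := P.norm _ h (φ u) ((hU ▸ ⟨u, hu, rfl⟩ : φ u ∈ T))
      rw [← map_inv, ← map_mul, ← map_mul, Model.wel_inv hF, ← hU] at h1
      obtain ⟨v, hv, hve⟩ := h1
      exact hcen hve.symm ⟨v, hv, 1, by rw [map_one, mul_one]⟩)
    have h1 := Model.card_unip hF
    rw [(Subgroup.eq_bot_iff_forall _).2 hall, Subgroup.card_bot] at h1
    exact absurd h1.symm (Nat.one_lt_pow (by norm_num) (by omega)).ne'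
  have hMB : ∀ x, φ x ∈ M → x ∈ Model.borel hF := by
    intro x hx
    rcases Model.bruhat hF x with h | ⟨b, hb, u, hu, rfl⟩
    · exact h
    · refine absurd ?_ hwM
      have := mul_mem (mul_mem (inv_mem (hBM b hb)) hx) (inv_mem (hBM u ⟨u, hu, 1, by rw [map_one, mul_one]⟩))
      simpa [mul_assoc] using this
  set t := φ (wel hF) with htdef
  have ht1 : t * t = 1 := by rw [htdef, ← map_mul, wel_sq, map_one]
  have ht : orderOf t = 2 := Invol.orderOf_eq_two ht1 fun h => hwM (h ▸ one_mem M)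
  have hD : ∀ d : G, d ∈ dd M t ↔ ∃ k, φ (tel hF k) = d := by
    intro d
    have hiff : ∀ x, φ x • t • pt M = t • pt M ↔ wel hF * x * wel hF ∈ Model.borel hF := fun x => by
      rw [← inv_smul_eq_iff, ← mul_smul, ← mul_smul, smul_pt_iff, htdef, ← map_inv, ← map_mul,
        ← map_mul, Model.wel_inv hF]
      exact ⟨hMB _, hBM _⟩
    constructor
    · rintro ⟨h1, h2⟩
      obtain ⟨x, rfl⟩ := hφs d
      obtain ⟨k, rfl⟩ := Model.borel_inter hF (hMB x (smul_pt_iff.1 h1))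
        ((hiff x).1 (mem_stabilizer_iff.1 h2))
      exact ⟨k, rfl⟩
    · rintro ⟨k, rfl⟩
      refine ⟨smul_pt_iff.2 (hBM _ ⟨1, one_mem _, k, (one_mul _).symm⟩), mem_stabilizer_iff.2 ((hiff _).2 ?_)⟩
      exact ⟨1, one_mem _, ((k : Fˣ) ^ q)⁻¹, by rw [one_mul, ← wel_conj hF, Model.wel_inv hF]⟩
  have hconj : ∀ (k : Fˣ) (a b : F) (h : Vld q a b),
      φ (tel hF k) * φ (uel hF a b h) * (φ (tel hF k))⁻¹ =
        φ (uel hF (lam q (k : F) * a) _ (vld_conj hF k.ne_zero h)) := by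
    intro k a b h
    rw [← map_inv, ← map_mul, ← map_mul, tel_conj]
  have hlam : ∀ k : Fˣ, φ (tel hF k) = 1 ↔ lam q (k : F) = 1 := by
    intro k
    constructor
    · intro h
      obtain ⟨r, hr⟩ := exists_trace_eq hF (μ := (-1 : F)) (by rw [qneg hF, one_pow])
      have hv : Vld q (1 : F) r := by
        show r + r ^ q + 1 * 1 ^ q = 0
        rw [one_pow]; linear_combination hr
      have hc' := Subgroup.mem_center_iff.1 ((hker _).1 h) (uel hF 1 r hv)
      have h2 := tel_conj hF k hv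
      rw [← hc', mul_inv_cancel_right] at h2
      simpa using (uel_injective hF h2).1.symm
    · intro h
      obtain ⟨h1, h2, -⟩ := lam_eq_one_iff hF k.ne_zero h
      refine (hker _).2 (Subgroup.mem_center_iff.2 fun y => hMat_inj ?_)
      rw [hMat_mul, hMat_mul, hMat_tel,
        show tMat q (k : F) = (k : F) • (1 : Matrix (Fin 3) (Fin 3) F) by
          ext i j; fin_cases i <;> fin_cases j <;> simp [tMat, h1, h2],
        mul_smul_comm, mul_one, smul_mul_assoc, one_mul]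
  have hTcard : Nat.card T = q ^ 3 := by
    rw [← Model.card_unip hF]
    refine (Nat.card_congr (Equiv.ofBijective (fun u : Model.unip hF =>
      (⟨φ u, hU ▸ ⟨u, u.2, rfl⟩⟩ : T)) ⟨fun u v huv => ?_, fun x => ?_⟩)).symm
    · have h' : φ u = φ v := congrArg (fun x : T => (x : G)) huv
      obtain ⟨z, hz⟩ := mul_mem (inv_mem u.2) v.2
      obtain ⟨h1, h2⟩ := hUinj z (by rw [hz, map_mul, map_inv, h', inv_mul_cancel])
      refine Subtype.ext (inv_mul_eq_one.1 ?_)
      rw [← hz, ← uel_zero hF]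
      exact uel_congr hF _ _ h1 h2
    · obtain ⟨z, hz⟩ := (hmemT x).1 x.2
      exact ⟨⟨_, Model.uP_mem hF z⟩, Subtype.ext hz⟩
  have hZcard : q ≤ Nat.card P.Z := by
    have hv : ∀ x : FixQ F q, Vld q (0 : F) x.1 := fun x => by
      unfold Vld
      rw [x.2, CharTwo.add_self_eq_zero, zero_mul, add_zero]
    refine (card_FixQ hF).ge.trans (Nat.card_le_card_of_injective
      (fun x : FixQ F q => (⟨φ (uel hF 0 x.1 (hv x)), (hZ _ _ _).2 rfl⟩ : P.Z)) fun x y h => ?_)
    have h' : φ (uel hF 0 x.1 (hv x)) = φ (uel hF 0 y.1 (hv y)) := congrArg (fun z : P.Z => (z : G)) h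
    have h1 : φ (uel hF (0 + 0) _ (vld_mul hF (hv x) (hv y))) = 1 := by
      rw [← uel_mul hF (hv x) (hv y), map_mul, h', ← map_mul, uel_mul, uel_congr hF _ (vld_zero hF) (add_zero 0)
        (by rw [CharTwo.add_self_eq_zero, zero_mul, sub_zero]), uel_zero, map_one]
    have h2 : x.1 + y.1 - 0 * 0 ^ q = 0 := (hUinj ⟨(_, _), vld_mul hF (hv x) (hv y)⟩ h1).2
    rw [zero_mul, sub_zero] at h2
    exact Subtype.ext (CharTwo.add_eq_zero.1 h2)
  have hlamFix : ∀ c : FixQ F q, c.1 ≠ 0 → lam q c.1 = c.1 := fun c hc => by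
    rw [lam, c.2, mul_div_assoc, div_self hc, mul_one]
  let ψ : Fˣ →* G := φ.comp (tel hF)
  have hDrange : dd M t = ψ.range := Subgroup.ext fun d => hD d
  refine ⟨{
    t := t
    ht := ht
    htM := hwM
    q := q
    hq := hq
    fpf := ?_
    sq := fun x hx => by
      obtain ⟨⟨⟨a, b⟩, hab⟩, rfl⟩ := (hmemT x).1 hx
      change φ (uel hF a b hab) * φ (uel hF a b hab) ∈ P.Z
      rw [← map_mul, uel_mul, hZ, CharTwo.add_self_eq_zero]
    nab := ?_
    card_le := by rw [hTcard, pow_succ]; exact Nat.mul_le_mul_left _ hZcard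
    line := ?_
    large := Or.inr ?_
    small := ?_ }⟩
  · intro d hd hd1 x hx h
    obtain ⟨k, rfl⟩ := (hD d).1 hd
    obtain ⟨⟨⟨a, b⟩, hab⟩, rfl⟩ := (hmemT x).1 hx
    obtain ⟨b', hb', hx'⟩ := hinv a b hab
    change φ (uel hF a b hab) ∈ P.Z
    change (φ (uel hF a b hab))⁻¹ * (φ (tel hF k) * φ (uel hF a b hab) * (φ (tel hF k))⁻¹) ∈ P.Z at h
    rw [hx', hconj, ← map_mul, uel_mul, hZ] at h
    rw [hZ]
    by_contra ha
    refine hd1 ((hlam k).2 ?_)
    have h1 : (lam q (k : F) - 1) * a = 0 := by linear_combination h - CharTwo.add_self_eq_zero a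
    exact sub_eq_zero.1 ((mul_eq_zero.1 h1).resolve_right ha)
  · obtain ⟨c, hc'⟩ : ∃ c : F, c ^ q ≠ c := by
      by_contra hcon
      push Not at hcon
      have h1 : Nat.card (FixQ F q) = Nat.card F := Nat.card_congr (Equiv.subtypeUnivEquiv hcon)
      rw [card_FixQ hF, hF] at h1
      nlinarith
    obtain ⟨r, hr⟩ := exists_trace_eq hF (μ := (-1 : F)) (by rw [qneg hF, one_pow])
    have hn1 : ∀ x : F, (x * x ^ q) ^ q = x * x ^ q := fun x => by
      rw [mul_pow, pow_q_q hF, mul_comm]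
    have hv : ∀ x : F, Vld q x (r * (x * x ^ q)) := fun x => by
      unfold Vld
      rw [mul_pow, hn1]
      linear_combination (x * x ^ q) * hr
    refine ⟨_, (hmemT _).2 ⟨⟨(1, _), hv 1⟩, rfl⟩, _, (hmemT _).2 ⟨⟨(c, _), hv c⟩, rfl⟩, fun h => ?_⟩
    change φ (uel hF 1 _ (hv 1)) * φ (uel hF c _ (hv c)) =
      φ (uel hF c _ (hv c)) * φ (uel hF 1 _ (hv 1)) at h
    rw [← map_mul, ← map_mul, uel_mul, uel_mul] at h
    have h1 : ∀ {a b a' b' : F} (h : Vld q a b) (h' : Vld q a' b'),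
        φ (uel hF a b h) = φ (uel hF a' b' h') → b = b' := by
      intro a b a' b' hh hh' he
      have hmem := mul_mem (inv_mem (Model.uP_mem hF ⟨(a, b), hh⟩)) (Model.uP_mem hF ⟨(a', b'), hh'⟩)
      obtain ⟨z, hz⟩ := hmem
      obtain ⟨z1, z2⟩ := hUinj z (by
        rw [hz, map_mul, map_inv]; exact inv_mul_eq_one.2 he)
      have h3 : uel hF a b hh = uel hF a' b' hh' := by
        refine inv_mul_eq_one.1 ?_
        show (uP hF ⟨(a, b), hh⟩)⁻¹ * uP hF ⟨(a', b'), hh'⟩ = 1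
        rw [← hz, ← uel_zero hF]
        exact uel_congr hF _ _ z1 z2
      exact (uel_injective hF h3).2
    have h2 := h1 _ _ h
    rw [one_pow] at h2
    apply hc'
    linear_combination -h2
  · let f : {c : FixQ F q // c.1 ≠ 0} → G := fun c => φ (tel hF (Units.mk0 c.1.1 c.2))
    have hf : Function.Injective f := by
      intro c d h
      have h1 : ψ ((Units.mk0 c.1.1 c.2)⁻¹ * Units.mk0 d.1.1 d.2) = 1 := by
        rw [map_mul, map_inv]; exact inv_mul_eq_one.2 h
      have h2 := (hlam _).1 h1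
      rw [Units.val_mul, lam_mul, Units.val_inv_eq_inv_val, Units.val_mk0, Units.val_mk0,
        hlamFix d.1 d.2] at h2
      have h3 : lam q c.1.1⁻¹ = c.1.1⁻¹ := hlamFix ⟨c.1.1⁻¹, by rw [inv_pow, c.1.2]⟩ (inv_ne_zero c.2)
      rw [h3, inv_mul_eq_iff_eq_mul₀ c.2, mul_one] at h2
      exact Subtype.ext (Subtype.ext h2.symm)
    refine ⟨Set.range f, fun k hk => ?_, ?_, ?_⟩
    · obtain ⟨c, rfl⟩ := hk
      exact (hD _).2 ⟨_, rfl⟩
    · rw [Nat.card_range_of_injective hf]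
      have h := Nat.card_congr (Equiv.optionSubtypeNe (⟨0, qzero hF⟩ : FixQ F q))
      rw [Finite.card_option, card_FixQ hF] at h
      refine h.ge.trans (Nat.add_le_add_right (Nat.card_congr (Equiv.subtypeEquivRight fun x => ?_)).le 1)
      exact ⟨fun hne h0 => hne (Subtype.ext h0), fun hne h0 => hne (congrArg Subtype.val h0)⟩
    · rintro _ ⟨c, rfl⟩ hc1
      have hne : c.1.1 ≠ 1 := fun h => hc1 ((hlam _).2 (by rw [Units.val_mk0, h]; exact lam_one))
      have hsum : (c.1.1 + 1) ^ q = c.1.1 + 1 := by rw [add_pow_q hF, c.1.2, one_pow]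
      have hs0 : c.1.1 + 1 ≠ 0 := fun h => hne (CharTwo.add_eq_zero.1 h)
      refine ⟨φ (tel hF (Units.mk0 _ hs0)), (hD _).2 ⟨_, rfl⟩, fun x hx => ?_⟩
      obtain ⟨⟨⟨a, b⟩, hab⟩, rfl⟩ := (hmemT x).1 hx
      change (φ _ * φ (uel hF a b hab) * (φ _)⁻¹)⁻¹ *
        (φ (uel hF a b hab) * (φ _ * φ (uel hF a b hab) * (φ _)⁻¹)) ∈ P.Z
      obtain ⟨b', hb', hx'⟩ := hinv _ _ (vld_conj hF (Units.mk0 _ hs0).ne_zero hab)
      rw [hconj, hconj, hx', ← map_mul, uel_mul, ← map_mul, uel_mul, hZ, Units.val_mk0, Units.val_mk0,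
        hlamFix ⟨_, hsum⟩ hs0, hlamFix c.1 c.2]
      linear_combination CharTwo.add_self_eq_zero ((c.1.1 + 1) * a)
  · have hker3 : ∀ k ∈ ψ.ker, (k : F) ^ 3 = 1 ∧ (k : F) * (k : F) ^ q = 1 := by
      intro k hk
      obtain ⟨-, h2, h3⟩ := lam_eq_one_iff hF k.ne_zero ((hlam k).1 hk)
      refine ⟨h3, ?_⟩
      have := mul_inv_cancel₀ (pow_ne_zero q k.ne_zero)
      rwa [h2, mul_comm] at this
    have hle3 : Nat.card ψ.ker ≤ Nat.gcd (Nat.card Fˣ) 3 := by
      rw [← IsCyclic.card_powMonoidHom_ker Fˣ 3]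
      refine Nat.le_of_dvd Nat.card_pos (Subgroup.card_dvd_of_le fun k hk => ?_)
      exact Units.ext (by simpa using (hker3 k hk).1)
    have hmul : Nat.card (dd M t) * Nat.card ψ.ker = (q + 1) * (q - 1) := by
      rw [hDrange, ← card_units_eq hF, ← Subgroup.index_ker, mul_comm, Subgroup.card_mul_index]
    rcases hq8 with e4 | h8
    · have h1 : ψ.ker = ⊥ := (Subgroup.eq_bot_iff_forall _).2 fun k hk => Units.ext (by
        obtain ⟨h3, h5⟩ := hker3 k hk
        rw [e4] at h5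
        show (k : F) = 1
        linear_combination ((k : F) ^ 3 + 1) * h3 - (k : F) * h5)
      rw [h1, Subgroup.card_bot, mul_one] at hmul
      rw [hmul, e4]; norm_num
    · have h3 : Nat.card ψ.ker ≤ 3 := hle3.trans (Nat.le_of_dvd (by norm_num) (Nat.gcd_dvd_right _ _))
      have h4 : (q + 1) * (q - 1) ≤ Nat.card (dd M t) * 3 := hmul ▸ Nat.mul_le_mul_left _ h3
      have h5 : 9 * (q - 1) ≤ (q + 1) * (q - 1) := Nat.mul_le_mul_right _ (by omega)
      omega
  · have h1 : Nat.card (dd M t) ≤ (q + 1) * (q - 1) := by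
      rw [hDrange, ← card_units_eq hF]
      exact Nat.card_le_card_of_surjective ψ.rangeRestrict ψ.rangeRestrict_surjective
    rw [hTcard]
    have h2 : (q + 1) * (q - 1) + 1 = q ^ 2 := by
      obtain ⟨m, hm⟩ : ∃ m, q = m + 1 := ⟨q - 1, by omega⟩
      rw [hm, Nat.add_sub_cancel]; ring
    have h3 : q ^ 2 < q ^ 3 := Nat.pow_lt_pow_right (by omega) (by norm_num)
    omega

/-- The two-point stabiliser of `PSU₃(q)`. -/
theorem unitary_frame (P : Pair M T) {F : Type} [Field F] [Fintype F] {n : ℕ} (hn : 2 ≤ n)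
    (hc : Fintype.card F = (2 ^ n) ^ 2) (e : G ≃* Cfsg.PSU 3 F (2 ^ n)) : Nonempty (Frame P) := by
  have hF : Nat.card F = (2 ^ n) ^ 2 := by rw [Nat.card_eq_fintype_card, hc]
  haveI : CharP F 2 := charP_of_card_eq_prime_pow (f := n * 2) (by rw [hc, pow_mul])
  obtain ⟨φ, hφs, hker, hU⟩ := exists_cover P (by omega) hF e
  refine frame_of_cover P ((show (4 : ℕ) = 2 ^ 2 by norm_num) ▸ Nat.pow_le_pow_right (by norm_num) hn)
    ?_ hF φ hφs hker hU
  rcases Nat.eq_or_lt_of_le hn with h | h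
  · exact Or.inl (by rw [← h]; norm_num)
  · exact Or.inr ((show (8 : ℕ) = 2 ^ 3 by norm_num) ▸ Nat.pow_le_pow_right (by norm_num) h)

end CfsgLib.BinaryCoset
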