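import Cfsg.Agent.Binary.Strong
import Cfsg.Agent.Recog.RankOneSuzuki.Main
import Cfsg.Agent.Binary.Unitary

/-!
# The two-point stabiliser of the rank one groups of even characteristic
-/

set_option autoImplicit false
set_option linter.unusedSectionVars false
set_option linter.style.haveILetI false

namespace CfsgLib.BinaryCoset

open MulAction Subgroup

universe u

variable {G : Type u} [Group G] [Finite G] [IsSimpleGroup G] {M T : Subgroup G}

theorem Pair.exists_data (P : Pair M T) {t : G} (ht : orderOf t = 2) (htM : t ∉ M) :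
    ∃ S : Recog.RankOneSuzuki.Data (pt M) t T, S.Z = P.Z ∧ S.L = ⊤ := by
  haveI := Recog.RankOneSuzuki.Coroll.faithful_of_simple P.se.1
  have hsetup := Recog.RankOneSuzuki.Coroll.setup_cosets M T t (Invol.mul_self_eq_one ht) htM P.le
    P.norm (fun x hx => P.trans t x htM hx) (fun w hw h => P.free htM hw h) (P.se.2.2 t htM) P.se.2.1
  obtain ⟨S⟩ := Recog.RankOneSuzuki.exists_data hsetup (Recog.RankOneSuzuki.Coroll.exists_two P.se)
  refine ⟨S, Subgroup.ext fun x => (S.mem_Z x).trans P.mem_Z.symm,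
    S.L_normal.eq_bot_or_eq_top.resolve_left fun h => S.setup.ne_one ?_⟩
  exact Subgroup.mem_bot.1 (h ▸ S.t_mem_L)

/-- The abelian case: `G` is `SL₂` and an element fixing three points is trivial. -/
theorem elementary_case (P : Pair M T) (hT : T ≤ P.Z) :
    (∃ (F : Type) (_ : Field F) (_ : Fintype F) (a : ℕ), 2 ≤ a ∧ Fintype.card F = 2 ^ a ∧
      Nonempty (G ≃* Matrix.SpecialLinearGroup (Fin 2) F)) ∧
    ∀ t : G, orderOf t = 2 → t ∉ M → ∀ d ∈ dd M t, t * d * t = d⁻¹ ∧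
      ∀ p : G ⧸ M, d • p = p → p ≠ pt M → p ≠ t • pt M → d = 1 := by
  haveI := Recog.RankOneSuzuki.Coroll.faithful_of_simple P.se.1
  refine ⟨?_, fun t ht htM => ?_⟩
  · obtain ⟨g, hg⟩ := Bender.Consumers.exists_not_mem P.se
    obtain ⟨a, haM, ha⟩ := StrongEmbed.exists_invol P.se
    have h1 : g * a * g⁻¹ ∉ M := fun h => hg (by
      have := StrongEmbed.mem_of_conj_mem P.se haM ha (g := g⁻¹) (by rwa [inv_inv])
      simpa using this)
    obtain ⟨S, hS, hL⟩ := P.exists_data (t := g * a * g⁻¹) (by rw [Invol.orderOf_conj_eq, ha]) h1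
    obtain ⟨F, i1, i2, ⟨n, hn, hc⟩, ⟨e⟩⟩ := S.psl_of_le (hS ▸ hT)
    haveI := charP_of_card_eq_prime_pow hc
    exact ⟨F, i1, i2, n, hn, hc, ⟨((Subgroup.topEquiv.symm.trans (MulEquiv.subgroupCongr hL.symm)).trans
      e).trans SL2Char2.slEquivPSL.symm⟩⟩
  · obtain ⟨S, hS, hL⟩ := P.exists_data ht htM
    intro d hd
    have hK : d ∈ S.K := S.mem_L_D (S.isSplit_of_le (hS ▸ hT)) (hL ▸ mem_top d) hd.1 hd.2
    refine ⟨S.t_K hK, fun p hp h1 h2 => by_contra fun hd1 => ?_⟩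
    rcases S.eq_of_K_fix hK hd1 hp with h | h
    · exact h1 h
    · exact h2 h

/-- The Suzuki case. -/
theorem suzuki_frame (P : Pair M T) (hna : ∃ x ∈ T, ∃ y ∈ T, x * y ≠ y * x) {t : G}
    (ht : orderOf t = 2) (htM : t ∉ M) {S : Recog.RankOneSuzuki.Data (pt M) t T} (hS : S.Z = P.Z)
    (hL : S.L = ⊤) (hsq : Nat.card T = Nat.card S.Z ^ 2) :
    Cfsg.Lie.IsoSuzuki G ∧ Nonempty (Frame P) := by
  classical
  haveI := Recog.RankOneSuzuki.Coroll.faithful_of_simple P.se.1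
  have hr := S.r_not_mem_Z_of_sq hsq
  have hsplit := S.isSplit_of_card hr hsq
  obtain ⟨F, i1, i2, m, hm, hc, ⟨e⟩⟩ := S.isoSuzuki_L hsplit S.isPGroup_Q hna
  refine ⟨⟨F, i1, i2, m, hm, hc,
    ⟨(Subgroup.topEquiv.symm.trans (MulEquiv.subgroupCongr hL.symm)).trans e⟩⟩, ?_⟩
  have hDK : ∀ d ∈ dd M t, d ∈ S.K := fun d hd => S.mem_L_D hsplit (hL ▸ mem_top d) hd.1 hd.2
  have hKD : ∀ d ∈ S.K, d ∈ dd M t := fun d hd => S.K_le hd
  have hcard := S.card_K
  have hZ4 := S.four_le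
  have hDcard : Nat.card (dd M t) = Nat.card S.K :=
    Nat.card_congr (Equiv.subtypeEquivRight fun d => ⟨hDK d, hKD d⟩)
  refine ⟨{
    t := t
    ht := ht
    htM := htM
    q := Nat.card S.Z
    hq := by omega
    fpf := fun d hd hd1 x hx h => hS ▸ S.mem_Z_of_comm (hDK d hd) hd1 hx (hS ▸ h)
    sq := fun x hx => hS ▸ S.sq_mem_Z hna x hx
    nab := hna
    card_le := by rw [hsq, ← hS]; exact Nat.le_mul_of_pos_right _ (by omega)
    line := ⟨(S.K : Set G), fun d hd => hKD d hd, by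
      show Nat.card S.Z ≤ Nat.card S.K + 1
      omega, ?_⟩
    large := Or.inl (by rw [hsq, ← hS, pow_two])
    small := by
      have : Nat.card S.Z * 2 ≤ Nat.card S.Z * Nat.card S.Z := Nat.mul_le_mul_left _ (by omega)
      rw [hsq, hDcard, pow_two]; omega }⟩
  intro k hk hk1
  -- transitivity on the cosets of `Z` outside `Z`
  have key : ∀ y ∈ T, y ∉ S.Z → ∃ k' ∈ S.K, (k' * S.r * k'⁻¹)⁻¹ * y ∈ S.Z := by
    intro y hy hyZ
    set f : S.K × S.Z → T := fun p => ⟨(p.1 : G) * (S.r * p.2) * (p.1 : G)⁻¹,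
      S.conj_Q p.1.2 (T.mul_mem S.r_mem (S.Z_le p.2.2))⟩
    have hf : Function.Injective f := fun p p' h => by
      obtain ⟨h1, h2⟩ := S.conj_r_mul_injective hr p.1.2 p'.1.2 p.2.2 p'.2.2 (congrArg Subtype.val h)
      exact Prod.ext (Subtype.ext h1) (Subtype.ext h2)
    set g : S.K × S.Z ⊕ S.Z → T := Sum.elim f fun z => ⟨z, S.Z_le z.2⟩
    have hg : Function.Injective g := hf.sumElim (fun z z' h => Subtype.ext (congrArg (fun x : T => (x : G)) h))
      fun p z h => S.conj_r_mul_not_mem hr p.1.2 p.2.2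
        (by rw [show (p.1 : G) * (S.r * p.2) * (p.1 : G)⁻¹ = z from congrArg (fun x : T => (x : G)) h]
            exact z.2)
    have hb := ((Nat.bijective_iff_injective_and_card g).2 ⟨hg, by
      rw [Nat.card_sum, Nat.card_prod, hsq]
      nlinarith⟩).2 ⟨y, hy⟩
    obtain ⟨(⟨k', v⟩ | z), hz⟩ := hb
    · refine ⟨k', k'.2, ?_⟩
      rw [← show (k' : G) * (S.r * v) * (k' : G)⁻¹ = y from congrArg (fun x : T => (x : G)) hz,
        show ((k' : G) * S.r * (k' : G)⁻¹)⁻¹ * ((k' : G) * (S.r * v) * (k' : G)⁻¹) =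
          (k' : G) * v * (k' : G)⁻¹ by group]
      exact S.conj_Z k'.2 v.2
    · exact absurd ((show (z : G) = y from congrArg (fun x : T => (x : G)) hz) ▸ z.2) hyZ
  have hy : S.r * (k * S.r * k⁻¹) ∈ T := T.mul_mem S.r_mem (S.conj_Q hk S.r_mem)
  have hyZ : S.r * (k * S.r * k⁻¹) ∉ S.Z := by
    intro h
    refine hr (S.mem_Z_of_comm hk hk1 S.r_mem ?_)
    have hz : S.r * S.r ∈ S.Z := S.sq_mem_Z hna _ S.r_mem
    rw [show S.r⁻¹ * (k * S.r * k⁻¹) = (S.r * S.r)⁻¹ * (S.r * (k * S.r * k⁻¹)) by group]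
    exact S.Z.mul_mem (S.Z.inv_mem hz) h
  obtain ⟨k', hk', hkey⟩ := key _ hy hyZ
  refine ⟨k', hKD k' hk', fun x hx => hS ▸ ?_⟩
  by_cases hxZ : x ∈ S.Z
  · exact S.Z.mul_mem (S.Z.inv_mem (S.conj_Z hk' hxZ)) (S.Z.mul_mem hxZ (S.conj_Z hk hxZ))
  obtain ⟨c, hc, hcx⟩ := key x hx hxZ
  set v := (c * S.r * c⁻¹)⁻¹ * x
  have hxe : x = c * S.r * c⁻¹ * v := by simp only [v]; group
  haveI := S.K_cyclic
  have hcomm : ∀ a b : G, a ∈ S.K → b ∈ S.K → a * b = b * a := fun a b ha hb' =>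
    congrArg Subtype.val (IsMulCommutative.is_comm.comm (⟨a, ha⟩ : S.K) ⟨b, hb'⟩)
  set w := (k' * S.r * k'⁻¹)⁻¹ * (S.r * (k * S.r * k⁻¹))
  have hcent := S.central
  have hv1 : k' * v * k'⁻¹ ∈ S.Z := S.conj_Z hk' hcx
  have hv2 : k * v * k⁻¹ ∈ S.Z := S.conj_Z hk hcx
  have e : (k' * x * k'⁻¹)⁻¹ * (x * (k * x * k⁻¹)) =
      (k' * v * k'⁻¹)⁻¹ * (c * w * c⁻¹) * (v * (k * v * k⁻¹)) := by
    have h1 : v * (k * (c * S.r * c⁻¹) * k⁻¹) = k * (c * S.r * c⁻¹) * k⁻¹ * v :=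
      hcent v hcx _ (S.conj_Q hk (S.conj_Q hc S.r_mem))
    have h2 : k' * c = c * k' := hcomm _ _ hk' hc
    have h3 : k * c = c * k := hcomm _ _ hk hc
    calc _ = (k' * v * k'⁻¹)⁻¹ * ((k' * c) * S.r * (k' * c)⁻¹)⁻¹ * (c * S.r * c⁻¹) *
          (v * (k * (c * S.r * c⁻¹) * k⁻¹)) * (k * v * k⁻¹) := by rw [hxe]; group
      _ = (k' * v * k'⁻¹)⁻¹ * ((k' * c) * S.r * (k' * c)⁻¹)⁻¹ * (c * S.r * c⁻¹) *
          ((k * c) * S.r * (k * c)⁻¹) * (v * (k * v * k⁻¹)) := by rw [h1]; group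
      _ = _ := by rw [h2, h3]; simp only [w]; group
  rw [e]
  exact S.Z.mul_mem (S.Z.mul_mem (S.Z.inv_mem hv1) (S.conj_Z hc hkey)) (S.Z.mul_mem hcx hv2)

/-- The three cases. -/
theorem cases (P : Pair M T) :
    T ≤ P.Z ∨ (Cfsg.Lie.IsoSuzuki G ∧ Nonempty (Frame P)) ∨
      ((∃ (F : Type) (_ : Field F) (_ : Fintype F) (a : ℕ), 2 ≤ a ∧ Fintype.card F = (2 ^ a) ^ 2 ∧
        Nonempty (G ≃* Cfsg.PSU 3 F (2 ^ a))) ∧ Nonempty (Frame P)) := by
  classical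
  haveI := Recog.RankOneSuzuki.Coroll.faithful_of_simple P.se.1
  obtain ⟨g, hg⟩ := Bender.Consumers.exists_not_mem P.se
  obtain ⟨a, haM, ha⟩ := StrongEmbed.exists_invol P.se
  have h1 : g * a * g⁻¹ ∉ M := fun h => hg (by
    have := StrongEmbed.mem_of_conj_mem P.se haM ha (g := g⁻¹) (by rwa [inv_inv])
    simpa using this)
  have h2 : orderOf (g * a * g⁻¹) = 2 := by rw [Invol.orderOf_conj_eq, ha]
  obtain ⟨S, hS, hL⟩ := P.exists_data h2 h1
  by_cases hcomm : ∀ x ∈ T, ∀ y ∈ T, x * y = y * x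
  · exact Or.inl (hS ▸ S.le_Z_of_abelian hcomm)
  push Not at hcomm
  rcases S.card_cases hcomm with h | h
  · exact Or.inr (Or.inl (suzuki_frame P hcomm h2 h1 hS hL h))
  · obtain ⟨L, hLn, hodd, F, i1, i2, n, hn, hc, ⟨e⟩⟩ := Recog.RankOneSuzuki.unitary_case S hcomm h
    have hLt : L = ⊤ := hLn.eq_bot_or_eq_top.resolve_left fun hb => by
      rw [hb, index_bot] at hodd
      exact Nat.not_even_iff_odd.2 hodd (Bender.Consumers.even_card P.se)
    have e' := (Subgroup.topEquiv.symm.trans (MulEquiv.subgroupCongr hLt.symm)).trans e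
    exact Or.inr (Or.inr ⟨⟨F, i1, i2, n, hn, hc, ⟨e'⟩⟩, unitary_frame P hn hc e'⟩)

end CfsgLib.BinaryCoset
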