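import Cfsg.Agent.Binary.Strong

/-!
# What is used about the two-point stabiliser
-/

set_option autoImplicit false
set_option linter.unusedSectionVars false

namespace CfsgLib.BinaryCoset

open MulAction

variable {G : Type*} [Group G] [Finite G] {M T : Subgroup G}

/-- The stabiliser of two points. -/
def dd (M : Subgroup G) (t : G) : Subgroup G :=
  stabilizer G (pt M) ⊓ stabilizer G (t • pt M)

theorem dd_le {t : G} : dd M t ≤ M := fun _ hd => smul_pt_iff.1 hd.1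

/-- The facts on the two-point stabiliser used in the proof. -/
structure Frame [IsSimpleGroup G] (P : Pair M T) where
  /-- An involution outside `M`. -/
  t : G
  ht : orderOf t = 2
  htM : t ∉ M
  /-- The order of the field. -/
  q : ℕ
  hq : 4 ≤ q
  fpf : ∀ d ∈ dd M t, d ≠ 1 → ∀ x ∈ T, x⁻¹ * (d * x * d⁻¹) ∈ P.Z → x ∈ P.Z
  sq : ∀ x ∈ T, x * x ∈ P.Z
  nab : ∃ x ∈ T, ∃ y ∈ T, x * y ≠ y * x
  card_le : Nat.card T ≤ q ^ 2 * Nat.card P.Z
  line : ∃ K : Set G, (∀ k ∈ K, k ∈ dd M t) ∧ q ≤ Nat.card K + 1 ∧ ∀ k ∈ K, k ≠ 1 →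
    ∃ k' ∈ dd M t, ∀ x ∈ T, (k' * x * k'⁻¹)⁻¹ * (x * (k * x * k⁻¹)) ∈ P.Z
  large : Nat.card T ≤ q * Nat.card P.Z ∨ 3 * q ≤ Nat.card (dd M t) + 3
  small : Nat.card (dd M t) + 1 < Nat.card T

end CfsgLib.BinaryCoset
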