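import Cfsg.Agent.Binary.Count

/-!
# A stabiliser inside the 2-subgroup consists of involutions
-/

set_option autoImplicit false
set_option linter.unusedSectionVars false
set_option linter.style.haveILetI false

namespace CfsgLib.BinaryCoset

open MulAction Subgroup

universe u

variable {G : Type u} [Group G] [Finite G] [IsSimpleGroup G] {M T H : Subgroup G} {P : Pair M T}

/-- The two-point stabiliser acting on the quotient. -/
abbrev Frame.da (Fr : Frame P) (d : dd M Fr.t) : P.V →* P.V := P.act ⟨d, dd_le d.2⟩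

theorem Frame.da_mul (Fr : Frame P) (d e : dd M Fr.t) (v : P.V) :
    Fr.da (d * e) v = Fr.da d (Fr.da e v) := P.act_mul ⟨d, dd_le d.2⟩ ⟨e, dd_le e.2⟩ v

theorem Frame.da_one (Fr : Frame P) (v : P.V) : Fr.da 1 v = v := P.act_one v

theorem Frame.eq_of_da (Fr : Frame P) {d e : dd M Fr.t} {v : P.V} (hv : v ≠ 1)
    (h : Fr.da d v = Fr.da e v) : d = e := by
  by_contra hne
  refine hv (Fr.fpf_dd (d := ((e⁻¹ * d : dd M Fr.t) : G)) (e⁻¹ * d).2
    (fun h1 => hne (inv_mul_eq_one.1 (Subtype.ext h1)).symm) ?_)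
  show Fr.da (e⁻¹ * d) v = v
  rw [Fr.da_mul, h, ← Fr.da_mul, inv_mul_cancel, Fr.da_one]

theorem Frame.sub_le_card (Fr : Frame P) : Fr.q ≤ Nat.card (dd M Fr.t) + 1 := by
  obtain ⟨K, hK, hc, -⟩ := Fr.line
  exact hc.trans (Nat.add_le_add_right (Nat.card_le_card_of_injective
    (fun k : K => (⟨k, hK k k.2⟩ : dd M Fr.t)) fun a b h => Subtype.ext (congrArg Subtype.val h :)) 1)

theorem Frame.card_V (Fr : Frame P) : Nat.card P.V ≤ Fr.q ^ 2 ∧
    (Nat.card P.V ≤ Fr.q ∨ 3 * Fr.q ≤ Nat.card (dd M Fr.t) + 3) := by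
  have h : Nat.card T = Nat.card P.V * Nat.card P.Z := by
    rw [P.Zt.card_eq_card_quotient_mul_card_subgroup]
    congr 1
    exact Nat.card_congr (subgroupOfEquivOfLe (H := P.Z) P.Z_le).toEquiv
  have hpos : 0 < Nat.card P.Z := Nat.card_pos
  exact ⟨Nat.le_of_mul_le_mul_right (h ▸ Fr.card_le) hpos,
    Fr.large.imp (fun h' => Nat.le_of_mul_le_mul_right (h ▸ h') hpos) id⟩

/-- There is no proper invariant subgroup of the quotient. -/
theorem Frame.eq_top_of_invariant (Fr : Frame P) (C : Subgroup P.V)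
    (hC : ∀ d : dd M Fr.t, ∀ v ∈ C, Fr.da d v ∈ C) {v₀ : P.V} (hv₀ : v₀ ∈ C) (hv₀1 : v₀ ≠ 1) :
    C = ⊤ := by
  classical
  by_contra hne
  obtain ⟨u, hu⟩ : ∃ u, u ∉ C := by
    by_contra h
    push Not at h
    exact hne (eq_top_iff.2 fun v _ => h v)
  let f : Option (dd M Fr.t) → C := fun o => o.elim 1 fun d => ⟨Fr.da d v₀, hC d _ hv₀⟩
  have h0 : ∀ d : dd M Fr.t, Fr.da d v₀ ≠ 1 := fun d h =>
    hv₀1 (P.act_injective _ (h.trans (map_one _).symm))
  have hf : Function.Injective f := by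
    rintro (_ | d) (_ | e) h
    · rfl
    · exact absurd (congrArg Subtype.val h).symm (h0 e)
    · exact absurd (congrArg Subtype.val h) (h0 d)
    · exact congrArg some (Fr.eq_of_da hv₀1 (congrArg Subtype.val h))
  let g : Option (dd M Fr.t) → P.V ⧸ C := fun o => o.elim (QuotientGroup.mk 1) fun d =>
    QuotientGroup.mk (Fr.da d u)
  have hnot : ∀ d : dd M Fr.t, Fr.da d u ∉ C := fun d h => hu (by
    have := hC d⁻¹ _ h
    rwa [← Fr.da_mul, inv_mul_cancel, Fr.da_one] at this)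
  have hg : Function.Injective g := by
    rintro (_ | d) (_ | e) h
    · rfl
    · have h1 : 1⁻¹ * Fr.da e u ∈ C := QuotientGroup.eq.1 h
      exact absurd (by simpa using h1) (hnot e)
    · have h1 : 1⁻¹ * Fr.da d u ∈ C := QuotientGroup.eq.1 h.symm
      exact absurd (by simpa using h1) (hnot d)
    · refine congrArg some (by_contra fun hde => hu ?_)
      have h1 : (Fr.da d u)⁻¹ * Fr.da e u ∈ C := QuotientGroup.eq.1 h
      set k : dd M Fr.t := d⁻¹ * e
      have hk1 : k ≠ 1 := fun h => hde (inv_mul_eq_one.1 h)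
      have h2 : u * Fr.da k u ∈ C := by
        have := hC d⁻¹ _ h1
        rwa [map_mul, map_inv, ← Fr.da_mul, inv_mul_cancel, Fr.da_one, ← Fr.da_mul, Fr.inv_V] at this
      have hkT : (k : G) ∉ T := fun h => hk1 (Subtype.ext
        (P.eq_one_of_fix (fun e => Fr.htM (smul_pt_iff.1 e)) h k.2.2))
      obtain ⟨w, hw, hwe⟩ := Fr.exists_solve (m := ⟨(k : G), dd_le k.2⟩) hkT C (fun v hv => hC k v hv) h2
      exact Fr.eq_of_solve (m := ⟨(k : G), dd_le k.2⟩) hkT hwe ▸ hw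
  have h1 := Nat.card_le_card_of_injective f hf
  have h2 := Nat.card_le_card_of_injective g hg
  rw [Finite.card_option] at h1 h2
  have h3 := Nat.mul_le_mul h2 h1
  rw [← C.card_eq_card_quotient_mul_card_subgroup] at h3
  obtain ⟨h4, h5⟩ := Fr.card_V
  have h6 := Fr.sub_le_card
  have h7 := Fr.hq
  rcases h5 with h5 | h5 <;> nlinarith

/-- The conjugates of the stabiliser containing a given class. -/
def fx (Fr : Frame P) (x : G ⧸ H) (v : P.V) : Set (dd M Fr.t) :=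
  {d | Fr.da d⁻¹ v ∈ fixR P x}

/-- Their intersection. -/
def iv (Fr : Frame P) (x : G ⧸ H) (v : P.V) : Subgroup P.V :=
  ⨅ d ∈ fx Fr x v, (fixR P x).comap (Fr.da d⁻¹)

variable {x : G ⧸ H}

theorem mem_iv {Fr : Frame P} {u v : P.V} :
    u ∈ iv Fr x v ↔ ∀ d ∈ fx Fr x v, Fr.da d⁻¹ u ∈ fixR P x := by
  simp [iv, Subgroup.mem_iInf]

theorem self_mem_iv (Fr : Frame P) (v : P.V) : v ∈ iv Fr x v := mem_iv.2 fun _ hd => hd

theorem fx_mono {Fr : Frame P} {u v : P.V} (hu : u ∈ iv Fr x v) : fx Fr x v ⊆ fx Fr x u :=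
  fun d hd => mem_iv.1 hu d hd

theorem iv_le {Fr : Frame P} {u v : P.V} (hu : u ∈ iv Fr x v) : iv Fr x u ≤ iv Fr x v :=
  fun _ hw => mem_iv.2 fun d hd => mem_iv.1 hw d (fx_mono hu hd)

theorem fx_da (Fr : Frame P) (e : dd M Fr.t) (v : P.V) (d : dd M Fr.t) :
    e * d ∈ fx Fr x (Fr.da e v) ↔ d ∈ fx Fr x v := by
  show Fr.da (e * d)⁻¹ (Fr.da e v) ∈ fixR P x ↔ Fr.da d⁻¹ v ∈ fixR P x
  rw [← Fr.da_mul]; simp [mul_assoc]

theorem mem_iv_da (Fr : Frame P) (e : dd M Fr.t) {u v : P.V} :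
    Fr.da e u ∈ iv Fr x (Fr.da e v) ↔ u ∈ iv Fr x v := by
  rw [mem_iv, mem_iv]
  constructor
  · intro h d hd
    have := h (e * d) ((fx_da Fr e v d).2 hd)
    rwa [← Fr.da_mul, show (e * d)⁻¹ * e = d⁻¹ by group] at this
  · intro h d hd
    have hd' : e⁻¹ * d ∈ fx Fr x v := (fx_da Fr e v _).1 (by rwa [mul_inv_cancel_left])
    have := h _ hd'
    rwa [← Fr.da_mul, show d⁻¹ * e = (e⁻¹ * d)⁻¹ by group]

theorem card_iv_da (Fr : Frame P) (e : dd M Fr.t) (v : P.V) :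
    Nat.card (iv Fr x (Fr.da e v)) = Nat.card (iv Fr x v) := by
  refine (Nat.card_congr (Equiv.ofBijective
    (fun u : iv Fr x v => (⟨Fr.da e u, (mem_iv_da Fr e).2 u.2⟩ : iv Fr x (Fr.da e v))) ⟨?_, ?_⟩)).symm
  · exact fun a b h => Subtype.ext (P.act_injective _ (congrArg Subtype.val h :))
  · rintro ⟨w, hw⟩
    have hw' : Fr.da e⁻¹ w ∈ iv Fr x v := (mem_iv_da Fr e).1 (by
      rwa [← Fr.da_mul, mul_inv_cancel, Fr.da_one])
    exact ⟨⟨_, hw'⟩, Subtype.ext (by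
      show Fr.da e (Fr.da e⁻¹ w) = w
      rw [← Fr.da_mul, mul_inv_cancel, Fr.da_one])⟩

/-- What the binary action says about three classes. -/
theorem exists_common (Fr : Frame P) (hb : Bin H) (hrel : rel M (base H) (pt M)) (hHT : H ≤ T)
    {u v : P.V} (hu : (fx Fr (base H) u).Nonempty) :
    ∃ c, c ∈ iv Fr (base H) u ∧ c ∈ iv Fr (base H) v ∧ c * v ∈ iv Fr (base H) (u * v) := by
  obtain ⟨a, ha, rfl⟩ := P.exists_cl u
  obtain ⟨b, hb', rfl⟩ := P.exists_cl v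
  obtain ⟨g, hga, hgb, hgab⟩ := hb.common a b
  have key : ∀ y ∈ T, ∀ d : dd M Fr.t, d ∈ fx Fr (base H) (P.cl y) ↔
      y • (d : G) • base H = (d : G) • base H := by
    intro y hy d
    have h1 : (d : G)⁻¹ * y * (d : G) ∈ T := P.norm' (dd_le d.2) hy
    show Fr.da d⁻¹ (P.cl y) ∈ fixR P (base H) ↔ _
    rw [Frame.da, P.act_cl _ hy,
      show (((⟨((d⁻¹ : dd M Fr.t) : G), dd_le (d⁻¹).2⟩ : M) : G) * y *
        ((⟨((d⁻¹ : dd M Fr.t) : G), dd_le (d⁻¹).2⟩ : M) : G)⁻¹) = (d : G)⁻¹ * y * d by simp,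
      mem_fixR hrel h1, mul_smul, mul_smul, inv_smul_eq_iff]
  obtain ⟨d₀, hd₀⟩ := hu
  have hgT : g ∈ T := by
    have h1 : ((d₀ : G)⁻¹ * g * d₀) ∈ H := smul_base_iff.1 (by
      rw [mul_smul, mul_smul, hga _ ((key a ha d₀).1 hd₀), inv_smul_smul])
    have := P.norm _ (dd_le d₀.2) _ (hHT h1)
    simpa [mul_assoc] using this
  refine ⟨P.cl g, mem_iv.2 fun d hd => (key g hgT d).2 (hga _ ((key a ha d).1 hd)),
    mem_iv.2 fun d hd => (key g hgT d).2 (hgb _ ((key b hb' d).1 hd)), mem_iv.2 fun d hd => ?_⟩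
  rw [← P.cl_mul ha hb'] at hd
  have h2 := hgab _ ((key _ (mul_mem ha hb') d).1 hd)
  have h3 : P.cl g * P.cl b = P.cl (b⁻¹ * g) := by
    rw [P.cl_mul (inv_mem hb') hgT, P.cl_inv hb', Fr.inv_V, Fr.comm_V]
  rw [h3]
  exact (key _ (mul_mem (inv_mem hb') hgT) d).2 (by rw [mul_smul, h2, inv_smul_smul])

/-- A stabiliser inside `T` consists of involutions. -/
theorem le_Z_of_le_T (Fr : Frame P) (hb : Bin H) (hrel : rel M (base H) (pt M)) (hHT : H ≤ T) :
    H ≤ P.Z := by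
  classical
  by_contra hnle
  obtain ⟨h₀, hh₀, hh₀Z⟩ := SetLike.not_le_iff_exists.1 hnle
  set x := base H
  have hv₀ : P.cl h₀ ≠ 1 := fun h => hh₀Z ((P.cl_eq_one_iff (hHT hh₀)).1 h)
  have hfx₀ : (1 : dd M Fr.t) ∈ fx Fr x (P.cl h₀) := by
    show Fr.da (1⁻¹) (P.cl h₀) ∈ fixR P x
    rw [inv_one, Fr.da_one]
    exact (mem_fixR hrel (hHT hh₀)).2 (smul_base_iff.2 hh₀)
  -- a class with smallest intersection
  set good : P.V → Prop := fun v => v ≠ 1 ∧ (fx Fr x v).Nonempty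
  haveI : Nonempty {v // good v} := ⟨⟨_, hv₀, 1, hfx₀⟩⟩
  obtain ⟨⟨v, hv⟩, hmin⟩ := Finite.exists_min fun v : {v // good v} => Nat.card (iv Fr x v.1)
  have hfxe : ∀ e : dd M Fr.t, (fx Fr x (Fr.da e v)).Nonempty := fun e =>
    hv.2.elim fun d hd => ⟨e * d, (fx_da Fr e v d).2 hd⟩
  have hne : ∀ e : dd M Fr.t, Fr.da e v ≠ 1 := fun e h =>
    hv.1 (P.act_injective _ (h.trans (map_one _).symm))
  have atom : ∀ (e : dd M Fr.t) (u : P.V), u ∈ iv Fr x (Fr.da e v) → u ≠ 1 →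
      iv Fr x u = iv Fr x (Fr.da e v) := by
    intro e u hu hu1
    refine Subgroup.eq_of_le_of_card_ge (iv_le hu) ?_
    rw [card_iv_da]
    exact hmin ⟨u, hu1, (hfxe e).mono (fx_mono hu)⟩
  set A := iv Fr x v
  have hAe : ∀ e : dd M Fr.t, Fr.da e v ∈ iv Fr x (Fr.da e v) := fun e => self_mem_iv Fr _
  have hone : ∀ (u : P.V), u ∈ A → u ≠ 1 → iv Fr x u = A := fun u hu hu1 => by
    have := atom 1 u (by rwa [Fr.da_one]) hu1
    rwa [Fr.da_one] at this
  -- `A` contains a line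
  obtain ⟨K, hK, hKcard, hline⟩ := Fr.line
  have hKA : ∀ k : K, Fr.da ⟨k, hK k k.2⟩ v ∈ A := by
    intro k
    set k' : dd M Fr.t := ⟨k, hK k k.2⟩
    by_cases hk1 : (k : G) = 1
    · rw [show k' = 1 from Subtype.ext hk1, Fr.da_one]; exact self_mem_iv Fr v
    obtain ⟨k₂, hk₂, hadd⟩ := hline k k.2 hk1
    have hsum : Fr.da ⟨k₂, hk₂⟩ v = v * Fr.da k' v := by
      obtain ⟨y, hy, rfl⟩ := P.exists_cl v
      rw [Frame.da, Frame.da, P.act_cl _ hy, P.act_cl _ hy]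
      have h1 := P.norm _ (dd_le hk₂) y hy
      have h2 := P.norm _ (dd_le (hK k k.2)) y hy
      rw [← P.cl_mul hy h2]
      refine inv_mul_eq_one.1 ?_
      rw [← P.cl_inv h1, ← P.cl_mul (inv_mem h1) (mul_mem hy h2),
        P.cl_eq_one_iff (mul_mem (inv_mem h1) (mul_mem hy h2))]
      exact hadd y hy
    by_contra hnA
    obtain ⟨c, hcu, hcv, hcw⟩ := exists_common Fr hb hrel hHT (u := v) (v := Fr.da k' v) hv.2
    have hc1 : c = 1 := by
      by_contra hc1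
      exact hnA ((atom k' c hcv hc1).symm.trans (hone c hcu hc1) ▸ hAe k')
    rw [hc1, one_mul, ← hsum] at hcw
    have he := atom _ _ hcw (hne k')
    have hvmem : v ∈ iv Fr x (Fr.da k' v) := by
      have h1 : Fr.da ⟨k₂, hk₂⟩ v ∈ iv Fr x (Fr.da k' v) := he ▸ hAe _
      rw [hsum] at h1
      simpa [mul_assoc, Fr.mul_self_V] using mul_mem h1 (hAe k')
    exact hnA ((atom k' v hvmem hv.1).symm ▸ hAe k' : Fr.da k' v ∈ iv Fr x v)
  have hAq : Fr.q ≤ Nat.card A := by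
    refine hKcard.trans ?_
    rw [← Finite.card_option]
    refine Nat.card_le_card_of_injective
      (fun o : Option K => o.elim (1 : A) fun k => ⟨_, hKA k⟩) ?_
    rintro (_ | k) (_ | l) h
    · rfl
    · exact absurd (congrArg Subtype.val h).symm (hne _)
    · exact absurd (congrArg Subtype.val h) (hne _)
    · exact congrArg some (Subtype.ext (congrArg Subtype.val
        (Fr.eq_of_da hv.1 (congrArg Subtype.val h)) :))
  -- `A` is proper
  have hAtop : A ≠ ⊤ := by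
    intro hA
    obtain ⟨d, hd⟩ := hv.2
    refine false_of_T_fix Fr hb (hHT.trans P.le) fun y hy => ?_
    have h1 : Fr.da d⁻¹ (Fr.da d (P.cl y)) ∈ fixR P x := mem_iv.1 (show Fr.da d (P.cl y) ∈ A by rw [hA]; exact mem_top _) d hd
    rw [← Fr.da_mul, inv_mul_cancel, Fr.da_one] at h1
    exact (mem_fixR hrel hy).1 h1
  obtain ⟨hVle, hlarge⟩ := Fr.card_V
  have hlt : 3 * Fr.q ≤ Nat.card (dd M Fr.t) + 3 := hlarge.resolve_left fun h => hAtop
    (Subgroup.eq_top_of_le_card _ (h.trans hAq))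
  -- a second line
  obtain ⟨γ, hγ⟩ : ∃ γ : dd M Fr.t, Fr.da γ v ∉ A := by
    by_contra hcon
    push Not at hcon
    refine hAtop (Fr.eq_top_of_invariant A (fun d u hu => ?_) (self_mem_iv Fr v) hv.1)
    have h1 : Fr.da d u ∈ iv Fr x (Fr.da d v) := (mem_iv_da Fr d).2 hu
    exact iv_le (hcon d) h1
  set B := iv Fr x (Fr.da γ v)
  have hdisj : ∀ u, u ∈ A → u ∈ B → u = 1 := fun u hA hB => by_contra fun hu1 =>
    hγ ((atom γ u hB hu1).symm.trans (hone u hA hu1) ▸ hAe γ)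
  have hBq : Nat.card B = Nat.card A := card_iv_da Fr γ v
  let f : A × B → P.V := fun ab => (ab.1 : P.V) * ab.2
  have hf : Function.Injective f := by
    rintro ⟨a, b⟩ ⟨a', b'⟩ h
    have h' : (a : P.V) * b = a' * b' := h
    have e1 : (a' : P.V)⁻¹ * a = b' * (b : P.V)⁻¹ := by
      rw [eq_mul_inv_iff_mul_eq, mul_assoc, h', inv_mul_cancel_left]
    have e2 := hdisj _ (mul_mem (inv_mem a'.2) a.2) (e1 ▸ mul_mem b'.2 (inv_mem b.2))
    have ha : a = a' := Subtype.ext (inv_mul_eq_one.1 e2).symm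
    subst ha
    exact Prod.ext rfl (Subtype.ext (mul_left_cancel h'))
  have hsq := Nat.card_le_card_of_injective f hf
  rw [Nat.card_prod, hBq] at hsq
  have hAeq : Nat.card A = Fr.q := by
    refine le_antisymm (Nat.mul_self_le_mul_self_iff.1 ?_) hAq
    exact hsq.trans (hVle.trans (pow_two Fr.q).le)
  have hfsurj : Function.Surjective f := ((Nat.bijective_iff_injective_and_card f).2 ⟨hf,
    le_antisymm (by rw [Nat.card_prod, hBq]; exact hsq)
      (by rw [Nat.card_prod, hBq, hAeq, ← pow_two]; exact hVle)⟩).2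
  -- a third line
  obtain ⟨γ', hγA, hγB⟩ : ∃ γ' : dd M Fr.t, Fr.da γ' v ∉ A ∧ Fr.da γ' v ∉ B := by
    by_contra hcon
    push Not at hcon
    let g : dd M Fr.t → {a : A // a ≠ 1} ⊕ {b : B // b ≠ 1} := fun d =>
      if h : Fr.da d v ∈ A then .inl ⟨⟨_, h⟩, fun e => hne d (congrArg Subtype.val e)⟩
      else .inr ⟨⟨_, hcon d h⟩, fun e => hne d (congrArg Subtype.val e)⟩
    have hg : Function.Injective g := fun d e h => by
      refine Fr.eq_of_da hv.1 ?_
      by_cases hd : Fr.da d v ∈ A <;> by_cases he : Fr.da e v ∈ A <;>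
        simp only [g, dif_pos, dif_neg, hd, he, not_false_eq_true] at h
      · exact congrArg (fun a : {a : A // a ≠ 1} => ((a.1 : A) : P.V)) (Sum.inl.inj h)
      · exact absurd h Sum.inl_ne_inr
      · exact absurd h Sum.inr_ne_inl
      · exact congrArg (fun a : {b : B // b ≠ 1} => ((a.1 : B) : P.V)) (Sum.inr.inj h)
    have h1 := Nat.card_le_card_of_injective g hg
    have h2 : ∀ (C : Subgroup P.V), Nat.card {a : C // a ≠ 1} + 1 = Nat.card C := fun C => by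
      rw [← Nat.card_congr (Equiv.optionSubtypeNe (1 : C)), Finite.card_option]
    have h3 := h2 A
    have h4 := h2 B
    rw [Nat.card_sum] at h1
    have h5 := Fr.hq
    omega
  obtain ⟨⟨a, b⟩, hab⟩ := hfsurj (Fr.da γ' v)
  have hab' : (a : P.V) * b = Fr.da γ' v := hab
  have ha1 : (a : P.V) ≠ 1 := fun h => hγB (by rw [← hab', h, one_mul]; exact b.2)
  have hb1 : (b : P.V) ≠ 1 := fun h => hγA (by rw [← hab', h, mul_one]; exact a.2)
  have hIa := hone _ a.2 ha1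
  have hIb := atom γ _ b.2 hb1
  have hfa : (fx Fr x (a : P.V)).Nonempty := hv.2.mono (fx_mono a.2)
  obtain ⟨c, hcu, hcv, hcw⟩ := exists_common Fr hb hrel hHT (u := (a : P.V)) (v := (b : P.V)) hfa
  rw [hIa] at hcu
  rw [hIb] at hcv
  rw [hdisj c hcu hcv, one_mul, hab'] at hcw
  exact hγB (show Fr.da γ' v ∈ iv Fr x (Fr.da γ v) by rw [← hIb, atom γ' _ hcw hb1]; exact hAe γ')

/-- A central element of `T` is an involution. -/
theorem center_le_Z (Fr : Frame P) {x : G} (hx : x ∈ T) (hc : ∀ y ∈ T, x * y = y * x) : x ∈ P.Z := by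
  by_contra hxZ
  set C : Subgroup P.V := (Subgroup.center T).map (QuotientGroup.mk' P.Zt)
  have hmem : ∀ y (hy : y ∈ T), (⟨y, hy⟩ : T) ∈ Subgroup.center T ↔ ∀ z ∈ T, y * z = z * y := by
    intro y hy
    rw [Subgroup.mem_center_iff]
    exact ⟨fun h z hz => (congrArg Subtype.val (h ⟨z, hz⟩)).symm, fun h z => Subtype.ext (h z z.2).symm⟩
  have hxC : P.cl x ∈ C := P.cl_mk hx ▸ ⟨⟨x, hx⟩, (hmem x hx).2 hc, rfl⟩
  have hCtop : C = ⊤ := Fr.eq_top_of_invariant C (fun d v hv => by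
    obtain ⟨⟨y, hy⟩, hyc, rfl⟩ := hv
    have hyc' := (hmem y hy).1 hyc
    rw [QuotientGroup.mk'_apply, ← P.cl_mk hy, Frame.da, P.act_cl _ hy]
    refine P.cl_mk (P.norm _ (dd_le d.2) y hy) ▸ ⟨⟨_, _⟩, (hmem _ _).2 fun z hz => ?_, rfl⟩
    have h := hyc' _ (P.norm' (dd_le d.2) hz)
    calc (d : G) * y * (d : G)⁻¹ * z = (d : G) * (y * ((d : G)⁻¹ * z * d)) * (d : G)⁻¹ := by group
      _ = _ := by rw [h]; group) hxC fun h => hxZ ((P.cl_eq_one_iff hx).1 h)
  obtain ⟨a, ha, b, hb, hab⟩ := Fr.nab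
  have h : P.cl a ∈ C := hCtop ▸ mem_top _
  rw [P.cl_mk ha] at h
  obtain ⟨⟨z, hz⟩, hzc, hze⟩ := h
  rw [QuotientGroup.mk'_apply] at hze
  have hw : z⁻¹ * a ∈ P.Z := mem_subgroupOf.1 (QuotientGroup.eq.1 hze)
  refine hab ?_
  have h1 := (hmem z hz).1 hzc b hb
  have h2 := P.central _ hw.1 hw.2 b hb
  calc a * b = z * (z⁻¹ * a * b) := by group
    _ = z * b * (z⁻¹ * a) := by rw [h2]; group
    _ = b * a := by rw [h1]; group

end CfsgLib.BinaryCoset
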