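import Cfsg.Agent.Binary.Delta

/-!
# Subgroups outside the strongly embedded subgroup
-/

set_option autoImplicit false
set_option linter.unusedSectionVars false
set_option linter.style.haveILetI false

namespace CfsgLib.BinaryCoset

open MulAction Subgroup

universe u

variable {G : Type u} [Group G] [Finite G] [IsSimpleGroup G] {M T H : Subgroup G} {P : Pair M T}

theorem rel_smul_of_mem {h : G} (hh : h ∈ H) {p : G ⧸ M} (hp : rel M (base H) p) :
    rel M (base H) (h • p) := smul_base_iff.2 hh ▸ rel_smul hp h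

theorem exists_invol_at (P : Pair M T) (p : G ⧸ M) : ∃ u : G, orderOf u = 2 ∧ u • p = p := by
  obtain ⟨g, rfl⟩ := exists_smul_pt M p
  obtain ⟨a, haM, ha⟩ := StrongEmbed.exists_invol P.se
  exact ⟨g * a * g⁻¹, by rw [Invol.orderOf_conj_eq, ha],
    by rw [mul_smul, mul_smul, inv_smul_smul, smul_pt_iff.2 haM]⟩

/-- The points related to the base point form one orbit of `H`. -/
theorem exists_smul_of_rel (P : Pair M T) (hsub : ∀ s ∈ M, orderOf s = 2 → s ∈ H) {p : G ⧸ M}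
    (hp : rel M (base H) p) : ∃ h ∈ H, h • pt M = p := by
  obtain ⟨u, hu, hup⟩ := exists_invol_at P p
  obtain ⟨a, haM, ha⟩ := StrongEmbed.exists_invol P.se
  have huH : u ∈ H := smul_base_iff.1 (hp u hu hup)
  by_cases huM : u ∈ M
  · exact ⟨1, one_mem H, by
      rw [one_smul]; exact StrongEmbed.fix_unique P.se hu (smul_pt_iff.2 huM) hup⟩
  obtain ⟨c, hc, hcu⟩ := Invol.exists_conj_of_odd ha hu (StrongEmbed.odd_mul P.se haM ha hu huM)
  refine ⟨c, ((closure_le H).2 ?_) hc, StrongEmbed.fix_unique P.se hu ?_ hup⟩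
  · intro z hz
    rcases hz with rfl | hz
    · exact hsub _ haM ha
    · rw [Set.mem_singleton_iff.1 hz]; exact huH
  · rw [← hcu, mul_smul, mul_smul, inv_smul_smul, smul_pt_iff.2 haM]

/-- If every element of `H ⊓ M` lies in `T`, then `H ≤ M`. -/
theorem le_of_inter_le (P : Pair M T) (hsub : ∀ s ∈ M, orderOf s = 2 → s ∈ H)
    (h : ∀ g ∈ H, g ∈ M → g ∈ T) : H ≤ M := by
  classical
  by_contra hnle
  obtain ⟨h₀, hh₀, hh₀M⟩ := SetLike.not_le_iff_exists.1 hnle
  set Pts := {p : G ⧸ M // p ≠ pt M ∧ rel M (base H) p}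
  haveI : Nonempty Pts := ⟨⟨h₀ • pt M, fun e => hh₀M (smul_pt_iff.1 e),
    rel_smul_of_mem hh₀ (rel_base hsub)⟩⟩
  choose c hcH hc using fun p : Pts => exists_smul_of_rel P hsub p.2.2
  set Zs := {z : P.Z // z ≠ 1}
  have hinv : ∀ (p : Pts) (z : Zs), orderOf (c p * ((z.1 : G)) * (c p)⁻¹) = 2 := fun p z => by
    rw [Invol.orderOf_conj_eq]
    exact Invol.orderOf_eq_two z.1.2.2 fun e => z.2 (Subtype.ext e)
  have hzH : ∀ z : Zs, (z.1 : G) ∈ H := fun z =>
    hsub _ (P.le z.1.2.1) (Invol.orderOf_eq_two z.1.2.2 fun e => z.2 (Subtype.ext e))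
  have hfix : ∀ (p : Pts) (z : Zs), (c p * (z.1 : G) * (c p)⁻¹) • p.1 = p.1 := fun p z => by
    have e : (c p)⁻¹ • p.1 = pt M := inv_smul_eq_iff.2 (hc p).symm
    rw [mul_smul, mul_smul, e, smul_pt_iff.2 (P.le z.1.2.1), hc p]
  let f : Pts × Zs → Pts := fun pz =>
    ⟨(c pz.1 * (pz.2.1 : G) * (c pz.1)⁻¹) • pt M, fun e => pz.1.2.1
      (StrongEmbed.fix_unique P.se (hinv pz.1 pz.2) (hfix pz.1 pz.2) e),
      rel_smul_of_mem (mul_mem (mul_mem (hcH _) (hzH _)) (inv_mem (hcH _))) (rel_base hsub)⟩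
  have hf : Function.Injective f := by
    rintro ⟨p, z⟩ ⟨p', z'⟩ he
    have he' : (c p * (z.1 : G) * (c p)⁻¹) • pt M = (c p' * (z'.1 : G) * (c p')⁻¹) • pt M :=
      congrArg (fun x : Pts => x.1) he
    set u := c p * (z.1 : G) * (c p)⁻¹ with hu
    set u' := c p' * (z'.1 : G) * (c p')⁻¹ with hu'
    have hu2 : orderOf u = 2 := hinv p z
    have hu2' : orderOf u' = 2 := hinv p' z'
    have hkM : u * u' ∈ M := smul_pt_iff.1 (by
      rw [mul_smul, ← he', ← mul_smul, Invol.mul_self_eq_one hu2, one_smul])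
    have hkT : u * u' ∈ T := h _ (mul_mem (mul_mem (mul_mem (hcH _) (hzH _)) (inv_mem (hcH _)))
      (mul_mem (mul_mem (hcH _) (hzH _)) (inv_mem (hcH _)))) hkM
    have huu : u * u' = 1 := P.eq_one_of_fix (f (p, z)).2.1 hkT (by
      show (u * u') • u • pt M = u • pt M
      conv_lhs => rw [he', mul_smul, ← mul_smul u' u', Invol.mul_self_eq_one hu2', one_smul])
    have heq : u = u' := by rw [eq_inv_of_mul_eq_one_left huu, Invol.inv_eq_self hu2']
    have hpp : p = p' := Subtype.ext (StrongEmbed.fix_unique P.se hu2 (hfix p z) (heq ▸ hfix p' z'))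
    subst hpp
    refine Prod.ext rfl (Subtype.ext (Subtype.ext ?_))
    exact mul_left_cancel (mul_right_cancel heq)
  have h1 := Nat.card_le_card_of_injective f hf
  rw [Nat.card_prod] at h1
  have h2 : Nat.card Zs + 1 = Nat.card P.Z := by
    rw [← Nat.card_congr (Equiv.optionSubtypeNe (1 : P.Z)), Finite.card_option]
  have h3 := P.four_le
  have h4 : 0 < Nat.card Pts := Nat.card_pos
  nlinarith

/-- If `T` fixes the base point, then `H ≤ M`. -/
theorem le_of_T_fix (P : Pair M T) (hy : Hyp H) (hsub : ∀ s ∈ M, orderOf s = 2 → s ∈ H)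
    (hT : ∀ y ∈ T, y • base H = base H) : H ≤ M := by
  by_contra hnle
  obtain ⟨h₀, hh₀, hh₀M⟩ := SetLike.not_le_iff_exists.1 hnle
  have hp : rel M (base H) (h₀ • pt M) := rel_smul_of_mem hh₀ (rel_base hsub)
  have hne : h₀ • pt M ≠ pt M := fun e => hh₀M (smul_pt_iff.1 e)
  refine hy.ne_top (P.eq_top_of_invols fun u hu => ?_)
  obtain ⟨q, hq⟩ := StrongEmbed.exists_fix P.se hu
  by_cases hqp : q = pt M
  · exact hsub u (smul_pt_iff.1 (hqp ▸ hq)) hu
  · obtain ⟨y, hyT, hyq⟩ := P.exists_smul hne hqp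
    exact smul_base_iff.1 (rel_smul_of_mem (smul_base_iff.1 (hT y hyT)) hp u hu (hyq ▸ hq))

/-- The elements of `T` moving related points to related points lie in `H`. -/
theorem sharp_base (hB : Bender.Consumers.Structure.{u}) (P : Pair M T)
    (hsub : ∀ s ∈ M, orderOf s = 2 → s ∈ H) : Sharp P (base H) := by
  intro y hyT p hp hrp hrq
  haveI : Fact (Nat.Prime 2) := ⟨Nat.prime_two⟩
  obtain ⟨h₁, hh₁, hh₁p⟩ := exists_smul_of_rel P hsub hrp
  obtain ⟨h₂, hh₂, hh₂q⟩ := exists_smul_of_rel P hsub hrq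
  have hq : y • p ≠ pt M := fun e => hp (MulAction.injective y (e.trans (P.smul_eq_pt hyT).symm))
  have hh₁M : h₁ ∉ M := fun e => hp (by rw [← hh₁p, smul_pt_iff.2 e])
  have hh₂M : h₂ ∉ M := fun e => hq (by rw [← hh₂q, smul_pt_iff.2 e])
  obtain ⟨a, haM, ha⟩ := StrongEmbed.exists_invol P.se
  set K := M.subgroupOf H with hK
  have hseK : Cfsg.IsStronglyEmbedded K := by
    refine ⟨fun e => hh₁M ((subgroupOf_eq_top.1 e) hh₁), ?_, fun g hg => ?_⟩
    · have : (⟨a, hsub a haM ha⟩ : H) ∈ K := haM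
      have := Subgroup.orderOf_dvd_natCard K this
      rw [Subgroup.orderOf_mk, ha] at this
      exact even_iff_two_dvd.2 this
    · refine (P.se.2.2 (g : G) hg).of_dvd_nat ?_
      rw [← Subgroup.card_map_of_injective H.subtype_injective]
      refine card_dvd_of_le ?_
      rintro _ ⟨z, ⟨hz, w, hw, hwz⟩, rfl⟩
      exact ⟨hz, (w : G), hw, congrArg Subtype.val hwz⟩
  have hpair : Bender.PairRank H := by
    classical
    haveI := Fintype.ofFinite P.Z
    obtain ⟨z, w, hz, hw, hne⟩ : ∃ z w : P.Z, z ≠ 1 ∧ w ≠ 1 ∧ z ≠ w := by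
      obtain ⟨z, w, v, -, -, -, hzw, hzv, hwv⟩ :=
        Finset.two_lt_card_iff.1 (show 2 < (Finset.univ : Finset P.Z).card by
          rw [Finset.card_univ, ← Nat.card_eq_fintype_card]
          have := P.four_le
          omega)
      by_cases hz : z = 1
      · exact ⟨w, v, fun e => hzw (hz.trans e.symm), fun e => hzv (hz.trans e.symm), hwv⟩
      · by_cases hw : w = 1
        · exact ⟨z, v, hz, fun e => hwv (hw.trans e.symm), hzv⟩
        · exact ⟨z, w, hz, hw, hzw⟩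
    have ho : ∀ v : P.Z, v ≠ 1 → orderOf (v : G) = 2 := fun v hv =>
      Invol.orderOf_eq_two v.2.2 fun e => hv (Subtype.ext e)
    refine ⟨⟨z, hsub _ (P.le z.2.1) (ho z hz)⟩, ⟨w, hsub _ (P.le w.2.1) (ho w hw)⟩,
      by rw [Subgroup.orderOf_mk, ho z hz], by rw [Subgroup.orderOf_mk, ho w hw],
      fun e => hne (Subtype.ext (congrArg (fun v : H => (v : G)) e)),
      Subtype.ext (P.central _ z.2.1 z.2.2 _ w.2.1)⟩
  obtain ⟨T', hT'K, -, hT'2, htr⟩ := Bender.Consumers.quot_shape hB hseK hpair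
  set π := QuotientGroup.mk' (Cfsg.oddCore H)
  have hO : Cfsg.oddCore H ≤ K :=
    Bender.Core.normal_odd_le hseK hpair inferInstance IsoApps.odd_oddCore
  have hback : ∀ g : H, π g ∈ K.map π → g ∈ K := by
    rintro g ⟨k, hk, hkg⟩
    have h1 : k⁻¹ * g ∈ Cfsg.oddCore H := QuotientGroup.eq.1 hkg
    simpa using mul_mem hk (hO h1)
  -- the odd core fixes the points of the orbit
  have hOfix : ∀ o ∈ Cfsg.oddCore H, ∀ h ∈ H, (o : G) • h • pt M = h • pt M := by
    intro o ho h hh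
    have h1 : ((⟨h, hh⟩ : H)⁻¹ * o * (⟨h, hh⟩ : H)⁻¹⁻¹) ∈ Cfsg.oddCore H :=
      (inferInstance : (Cfsg.oddCore H).Normal).conj_mem o ho _
    have h2 : h⁻¹ * (o : G) * h ∈ M := by
      have := mem_subgroupOf.1 (hO h1)
      simpa using this
    rw [← smul_pt_iff, mul_smul, mul_smul, inv_smul_eq_iff] at h2
    exact h2
  obtain ⟨w, hw, hw'⟩ := htr (π ⟨h₁, hh₁⟩) (π ⟨h₂, hh₂⟩) (fun e => hh₁M (hback _ e))
    fun e => hh₂M (hback _ e)
  obtain ⟨m, rfl⟩ := QuotientGroup.mk'_surjective (Cfsg.oddCore H) w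
  have hmK : m ∈ K := hback m (hT'K hw)
  have hmove : ((⟨h₂, hh₂⟩ : H)⁻¹ * (m * ⟨h₁, hh₁⟩)) ∈ K := hback _ (by
    rw [map_mul, map_inv, map_mul]; exact hw')
  have hmp : (m : G) • p = y • p := by
    have h3 : h₂⁻¹ * ((m : G) * h₁) ∈ M := mem_subgroupOf.1 hmove
    rw [← smul_pt_iff, mul_smul, mul_smul, inv_smul_eq_iff, hh₁p, hh₂q] at h3
    exact h3
  -- replace `m` by its 2-part
  obtain ⟨i, hi⟩ := hT'2 ⟨π m, hw⟩
  have hi' : π m ^ 2 ^ i = 1 := congrArg Subtype.val hi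
  obtain ⟨j, l, hl, hol⟩ := Nat.exists_eq_pow_mul_and_not_dvd (orderOf_pos m).ne' 2 (by norm_num)
  have hcop : Nat.Coprime (2 ^ (i + j)) l :=
    Nat.Coprime.pow_left _ ((Nat.prime_two.coprime_iff_not_dvd).2 hl)
  obtain ⟨n, hn1, hn0⟩ := Nat.chineseRemainder hcop 1 0
  have hn2 : 2 ^ j * l ∣ n * 2 ^ (i + j) := by
    rw [mul_comm n]
    exact mul_dvd_mul (pow_dvd_pow 2 (by omega)) (Nat.modEq_zero_iff_dvd.1 hn0)
  have hpow : (m ^ n) ^ 2 ^ (i + j) = 1 := by
    rw [← pow_mul, ← orderOf_dvd_iff_pow_eq_one, hol]; exact hn2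
  have hπ : π (m ^ n) = π m := by
    rw [map_pow]
    conv_rhs => rw [← pow_one (π m)]
    rw [pow_eq_pow_iff_modEq]
    exact hn1.of_dvd ((orderOf_dvd_of_pow_eq_one hi').trans (pow_dvd_pow 2 (by omega)))
  have hmnT : ((m ^ n : H) : G) ∈ T := P.two_mem (mem_subgroupOf.1 (pow_mem hmK n)) (i := i + j)
    (by rw [← SubmonoidClass.coe_pow, hpow]; rfl)
  have hmnp : ((m ^ n : H) : G) • p = y • p := by
    have h4 : (m ^ n)⁻¹ * m ∈ Cfsg.oddCore H := QuotientGroup.eq.1 hπ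
    have h5 := hOfix _ h4 h₁ hh₁
    rw [hh₁p, Subgroup.coe_mul, Subgroup.coe_inv, mul_smul, hmp, inv_smul_eq_iff] at h5
    exact h5.symm
  have hyy : y⁻¹ * ((m ^ n : H) : G) = 1 := P.eq_one_of_fix hp (mul_mem (inv_mem hyT) hmnT)
    (by rw [mul_smul, hmnp, inv_smul_smul])
  rw [smul_base_iff, inv_mul_eq_one.1 hyy]
  exact (m ^ n).2

end CfsgLib.BinaryCoset
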