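import Cfsg.Agent.Binary.Basic
import Cfsg.Agent.Bender.Consumers

/-!
# A strongly embedded subgroup with its normal 2-subgroup
-/

set_option autoImplicit false
set_option linter.unusedSectionVars false
set_option linter.style.haveILetI false

namespace CfsgLib.BinaryCoset

open MulAction Subgroup

universe u

variable {G : Type u} [Group G] [Finite G]

/-- A strongly embedded subgroup with a normal 2-subgroup transitive on the other cosets, in which
the involutions are central. -/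
structure Pair (M T : Subgroup G) : Prop where
  se : Cfsg.IsStronglyEmbedded M
  le : T ≤ M
  norm : ∀ h ∈ M, ∀ x ∈ T, h * x * h⁻¹ ∈ T
  two : IsPGroup 2 T
  trans : ∀ g₁ g₂ : G, g₁ ∉ M → g₂ ∉ M → ∃ w ∈ T, g₂⁻¹ * (w * g₁) ∈ M
  central : ∀ z ∈ T, z * z = 1 → ∀ x ∈ T, z * x = x * z

/-- The point of `M` in its coset space. -/
def pt (M : Subgroup G) : G ⧸ M := QuotientGroup.mk 1

theorem smul_pt_iff {M : Subgroup G} {g : G} : g • pt M = pt M ↔ g ∈ M :=
  StrongEmbed.smul_mk_one_iff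

theorem exists_smul_pt (M : Subgroup G) (p : G ⧸ M) : ∃ g : G, g • pt M = p :=
  exists_smul_eq G (pt M) p

variable [IsSimpleGroup G] {M T : Subgroup G}

theorem exists_pair (hB : Bender.Consumers.Structure.{u}) (hse : Cfsg.IsStronglyEmbedded M) :
    ∃ T : Subgroup G, Pair M T := by
  obtain ⟨T, hTM, hn, hT, htr⟩ := Bender.Consumers.shape_of_simple hB hse
  refine ⟨T, hse, hTM, fun h hh x hx => (mem_normalizer_iff.1 (hn hh) x).1 hx, hT, htr, ?_⟩
  obtain ⟨g, hg⟩ := Bender.Consumers.exists_not_mem hse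
  obtain ⟨t, ht, htg⟩ := StrongEmbed.exists_swap hse (x := (QuotientGroup.mk 1 : G ⧸ M))
    (y := g • QuotientGroup.mk 1) fun h => hg (StrongEmbed.smul_mk_one_iff.1 h.symm)
  have htM : t ∉ M := fun h => hg (StrongEmbed.smul_mk_one_iff.1 (by
    rw [← htg, StrongEmbed.smul_mk_one_iff.2 h]))
  have hsetup := Recog.RankOneSuzuki.Coroll.setup_cosets M T t (Invol.mul_self_eq_one ht) htM hTM
    (fun h hh x hx => (mem_normalizer_iff.1 (hn hh) x).1 hx) (fun x hx => htr t x htM hx)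
    (fun w hw h => Bender.Consumers.shape_free hse hTM hT htM hw h) (hse.2.2 t htM) hse.2.1
  haveI := Recog.RankOneSuzuki.Coroll.faithful_of_simple hse.1
  obtain ⟨S⟩ := Recog.RankOneSuzuki.exists_data hsetup (Recog.RankOneSuzuki.Coroll.exists_two hse)
  exact fun z hz hz2 x hx => S.central z ((S.mem_Z z).2 ⟨hz, hz2⟩) x hx

namespace Pair

variable (P : Pair M T)
include P

theorem free {g w : G} (hg : g ∉ M) (hw : w ∈ T) (h : g⁻¹ * (w * g) ∈ M) : w = 1 :=
  Bender.Consumers.shape_free P.se P.le P.two hg hw h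

theorem eq_one_of_fix {p : G ⧸ M} (hp : p ≠ pt M) {w : G} (hw : w ∈ T) (h : w • p = p) : w = 1 := by
  obtain ⟨g, rfl⟩ := exists_smul_pt M p
  refine P.free (fun hg => hp (smul_pt_iff.2 hg)) hw (smul_pt_iff.1 ?_)
  rw [mul_smul, mul_smul, h, inv_smul_smul]

theorem exists_smul {p q : G ⧸ M} (hp : p ≠ pt M) (hq : q ≠ pt M) : ∃ w ∈ T, w • p = q := by
  obtain ⟨g, rfl⟩ := exists_smul_pt M p
  obtain ⟨k, rfl⟩ := exists_smul_pt M q
  obtain ⟨w, hw, h⟩ := P.trans g k (fun hg => hp (smul_pt_iff.2 hg)) fun hk => hq (smul_pt_iff.2 hk)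
  refine ⟨w, hw, ?_⟩
  have := smul_pt_iff.2 h
  rw [mul_smul, mul_smul, inv_smul_eq_iff] at this
  exact this

theorem smul_eq_pt {w : G} (hw : w ∈ T) : w • pt M = pt M := smul_pt_iff.2 (P.le hw)

theorem two_mem {x : G} (hx : x ∈ M) {i : ℕ} (h : x ^ 2 ^ i = 1) : x ∈ T :=
  Bender.Consumers.two_mem_of_shape P.se P.le
    (fun h hh => mem_normalizer_iff.2 fun y => ⟨P.norm h hh y, fun hy => by
      have := P.norm h⁻¹ (inv_mem hh) _ hy
      simpa [mul_assoc] using this⟩) P.trans hx h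

theorem invol_mem {x : G} (hx : x ∈ M) (h : x * x = 1) : x ∈ T :=
  P.two_mem hx (i := 1) (by rw [pow_one, pow_two, h])

theorem norm' {h x : G} (hh : h ∈ M) (hx : x ∈ T) : h⁻¹ * x * h ∈ T := by
  have := P.norm h⁻¹ (inv_mem hh) x hx
  rwa [inv_inv] at this

omit P in
/-- The elements of order at most two of `T`. -/
def Z (P : Pair M T) : Subgroup G where
  carrier := {x | x ∈ T ∧ x * x = 1}
  one_mem' := ⟨one_mem T, mul_one 1⟩
  inv_mem' := fun {x} hx => ⟨inv_mem hx.1, by rw [← mul_inv_rev, hx.2, inv_one]⟩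
  mul_mem' := fun {x y} hx hy => ⟨mul_mem hx.1 hy.1, by
    rw [Commute.mul_mul_mul_comm (show Commute y x from P.central y hy.1 hy.2 x hx.1), hx.2, hy.2, one_mul]⟩

theorem mem_Z {x : G} : x ∈ P.Z ↔ x ∈ T ∧ x * x = 1 := Iff.rfl

theorem Z_le : P.Z ≤ T := fun _ hx => hx.1

theorem mem_Z_of_mem {x : G} (hx : x ∈ M) (h : x * x = 1) : x ∈ P.Z := ⟨P.invol_mem hx h, h⟩

theorem Z_norm {h z : G} (hh : h ∈ M) (hz : z ∈ P.Z) : h * z * h⁻¹ ∈ P.Z :=
  ⟨P.norm h hh z hz.1, by rw [show h * z * h⁻¹ * (h * z * h⁻¹) = h * (z * z) * h⁻¹ by group, hz.2,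
    mul_one, mul_inv_cancel]⟩

/-- Involutions fixing the same point of `G ⧸ M` commute. -/
theorem commute_of_fix {u v : G} (hu : orderOf u = 2) (hv : orderOf v = 2) {p : G ⧸ M}
    (hup : u • p = p) (hvp : v • p = p) : Commute u v := by
  obtain ⟨g, rfl⟩ := exists_smul_pt M p
  have hmem : ∀ w : G, orderOf w = 2 → w • g • pt M = g • pt M → g⁻¹ * w * g ∈ P.Z := fun w hw hwp =>
    P.mem_Z_of_mem (smul_pt_iff.1 (by rw [mul_smul, mul_smul, hwp, inv_smul_smul]))
      (by rw [show g⁻¹ * w * g * (g⁻¹ * w * g) = g⁻¹ * (w * w) * g by group,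
        Invol.mul_self_eq_one hw, mul_one, inv_mul_cancel])
  have h := P.central _ (hmem u hu hup).1 (hmem u hu hup).2 _ (hmem v hv hvp).1
  have h' : Commute (g⁻¹ * u * g) (g⁻¹ * v * g) := h
  have h'' := h'.map (MulAut.conj g).toMonoidHom
  simpa [mul_assoc] using h''

/-- Commuting involutions fix the same point. -/
theorem fix_eq_of_commute {u v : G} (hu : orderOf u = 2) (hv : orderOf v = 2) (hc : Commute u v)
    {p q : G ⧸ M} (hup : u • p = p) (hvq : v • q = q) : p = q := by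
  refine StrongEmbed.fix_unique P.se hv (StrongEmbed.fix_unique P.se hu ?_ hup) hvq
  rw [← mul_smul, hc.eq, mul_smul, hup]

/-- `T` is a Sylow `2`-subgroup. -/
theorem exists_sylow : ∃ S : Sylow 2 G, (S : Subgroup G) = T := by
  haveI : Fact (Nat.Prime 2) := ⟨Nat.prime_two⟩
  obtain ⟨S, hS⟩ := P.two.exists_le_sylow
  refine ⟨S, le_antisymm (fun s hs => ?_) hS⟩
  obtain ⟨a, haM, ha⟩ := StrongEmbed.exists_invol P.se
  have haT : a ∈ T := P.invol_mem haM (Invol.mul_self_eq_one ha)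
  -- a central involution of the Sylow subgroup
  haveI : Nontrivial (S : Subgroup G) := ⟨⟨⟨a, hS haT⟩, 1, fun h => Invol.ne_one ha
    (congrArg Subtype.val h)⟩⟩
  haveI := S.2.center_nontrivial
  obtain ⟨k, hk⟩ := IsPGroup.iff_card.1 (S.2.to_subgroup (center (S : Subgroup G)))
  obtain ⟨z, hz⟩ := exists_prime_orderOf_dvd_card' (G := center (S : Subgroup G)) 2 (hk ▸ dvd_pow_self 2
    fun h0 => by
      have := Finite.one_lt_card (α := center (S : Subgroup G))
      rw [hk, h0, pow_zero] at this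
      omega)
  rw [← Subgroup.orderOf_coe, ← Subgroup.orderOf_coe] at hz
  have hcomm : ∀ y ∈ (S : Subgroup G), Commute y ((z : (S : Subgroup G)) : G) := fun y hy =>
    congrArg Subtype.val (mem_center_iff.1 z.2 ⟨y, hy⟩)
  have hzM : ((z : (S : Subgroup G)) : G) ∈ M :=
    StrongEmbed.mem_of_commute P.se haM ha (hcomm a (hS haT)).symm
  obtain ⟨i, hi⟩ := S.2 ⟨s, hs⟩
  exact P.two_mem (StrongEmbed.mem_of_commute P.se hzM hz (hcomm s hs)) (congrArg Subtype.val hi)

/-- `M` is the normaliser of `T`. -/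
theorem mem_of_normalises {g : G} (h : ∀ x ∈ T, g⁻¹ * x * g ∈ T) : g ∈ M := by
  obtain ⟨a, haM, ha⟩ := StrongEmbed.exists_invol P.se
  exact StrongEmbed.mem_of_conj_mem P.se haM ha (P.le (h a (P.invol_mem haM (Invol.mul_self_eq_one ha))))

/-- The group is generated by the conjugates of the involutions of `T`. -/
theorem eq_top_of_invols {K : Subgroup G} (h : ∀ u : G, orderOf u = 2 → u ∈ K) : K = ⊤ := by
  obtain ⟨a, -, ha⟩ := StrongEmbed.exists_invol P.se
  have hle : Subgroup.normalClosure ({a} : Set G) ≤ K := by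
    refine (Subgroup.closure_le _).2 fun y hy => ?_
    obtain ⟨b, hb, hby⟩ := Group.mem_conjugatesOfSet_iff.1 hy
    rw [Set.mem_singleton_iff.1 hb] at hby
    obtain ⟨c, rfl⟩ := isConj_iff.1 hby
    exact h _ (by rw [Invol.orderOf_conj_eq, ha])
  refine top_le_iff.1 (le_trans ?_ hle)
  rcases IsSimpleGroup.eq_bot_or_eq_top_of_normal _ (Subgroup.normalClosure_normal (s := {a})) with
    e | e
  · exact absurd (Subgroup.mem_bot.1 (e ▸ Subgroup.subset_normalClosure (Set.mem_singleton a)))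
      (Invol.ne_one ha)
  · exact e.ge

end Pair

end CfsgLib.BinaryCoset
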